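import Mathlib.GroupTheory.Index
import Mathlib.GroupTheory.Coset.Card
import Mathlib.Data.Set.Card
import Mathlib.Data.Set.Card.Arithmetic
import Mathlib.GroupTheory.GroupAction.Defs
import Mathlib.Tactic.Group
import Mathlib.Algebra.Order.BigOperators.Group.Finset

/-!
# Bounds for the centraliser of an element through the cosets of a subgroup
-/

set_option autoImplicit false

namespace CfsgLib.J4Cent

/-- A map on a group whose fibres are the left cosets of a subgroup. -/
theorem card_eq_of_fibres {H α : Type*} [Group H] (D : Subgroup H) (f : H → α)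
    (hf : ∀ a b, f a = f b ↔ a⁻¹ * b ∈ D) :
    Nat.card H = (Set.range f).ncard * Nat.card D := by
  let e : H ⧸ D ≃ Set.range f := Equiv.ofBijective
    (Quotient.lift (fun a => (⟨f a, a, rfl⟩ : Set.range f))
      (fun a b h => Subtype.ext ((hf a b).2 (QuotientGroup.leftRel_apply.1 h))))
    ⟨fun p q => Quotient.inductionOn₂ p q fun a b h =>
      Quotient.sound (QuotientGroup.leftRel_apply.2 ((hf a b).1 (congrArg Subtype.val h))),
      fun ⟨_, a, rfl⟩ => ⟨Quotient.mk _ a, rfl⟩⟩
  rw [Subgroup.card_eq_card_quotient_mul_card_subgroup D, Nat.card_congr e,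
    Nat.card_coe_set_eq]

variable {G : Type*} [Group G]

/-- The members of a class centralising the conjugate of a set. -/
def sharedSet (S E : Set G) (x : G) : Set G :=
  {s | s ∈ S ∧ ∀ b ∈ E, Commute s (x * b * x⁻¹)}

theorem commute_conj_iff (x a b : G) : Commute (x * a * x⁻¹) (x * b * x⁻¹) ↔ Commute a b :=
  by
  have e : ∀ u v : G, (x * u * x⁻¹) * (x * v * x⁻¹) = x * (u * v) * x⁻¹ := fun u v => by group
  show _ * _ = _ * _ ↔ a * b = b * a
  rw [e, e, mul_left_inj, mul_right_inj]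

theorem sum_biUnion_le' {ι α : Type*} [DecidableEq α] (s : Finset ι) (O : ι → Finset α)
    (f : α → ℕ) : ∑ p ∈ s.biUnion O, f p ≤ ∑ j ∈ s, ∑ p ∈ O j, f p := by
  classical
  induction s using Finset.induction with
  | empty => simp
  | insert j s hj ih =>
    rw [Finset.biUnion_insert, Finset.sum_insert hj]
    calc ∑ p ∈ O j ∪ s.biUnion O, f p
        ≤ ∑ p ∈ O j ∪ s.biUnion O, f p + ∑ p ∈ O j ∩ s.biUnion O, f p := Nat.le_add_right _ _
      _ = _ := Finset.sum_union_inter
      _ ≤ _ := Nat.add_le_add_left ih _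

variable {S E : Set G} {K : Subgroup G}

theorem sharedSet_mul_right (hE : ∀ k ∈ K, ∀ b ∈ E, k * b * k⁻¹ ∈ E) (x : G) {k : G} (hk : k ∈ K) :
    sharedSet S E (x * k) = sharedSet S E x := by
  ext s
  refine ⟨fun h => ⟨h.1, fun b hb => ?_⟩, fun h => ⟨h.1, fun b hb => ?_⟩⟩
  · have := h.2 _ (hE k⁻¹ (inv_mem hk) b hb)
    convert this using 1; group
  · have := h.2 _ (hE k hk b hb)
    convert this using 1; group

theorem sharedSet_mul_left (hS : ∀ k ∈ K, ∀ s ∈ S, k * s * k⁻¹ ∈ S) (x : G) {l : G} (hl : l ∈ K) :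
    sharedSet S E (l * x) = (fun s => l * s * l⁻¹) '' sharedSet S E x := by
  ext s
  constructor
  · intro h
    refine ⟨l⁻¹ * s * l, ⟨by simpa using hS l⁻¹ (inv_mem hl) s h.1, fun b hb => ?_⟩, by group⟩
    have h' := (commute_conj_iff l⁻¹ _ _).2 (h.2 b hb)
    convert h' using 1 <;> group
  · rintro ⟨t, ht, rfl⟩
    refine ⟨hS l hl t ht.1, fun b hb => ?_⟩
    have h' := (commute_conj_iff l _ _).2 (ht.2 b hb)
    convert h' using 1; group

/-- The cosets whose associated set is centralised by an element. -/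
def coPoints (K : Subgroup G) (S E : Set G) (s : G) : Set (G ⧸ K) :=
  {p | s ∈ sharedSet S E p.out}

theorem mem_coPoints (hE : ∀ k ∈ K, ∀ b ∈ E, k * b * k⁻¹ ∈ E) (s x : G) :
    (x : G ⧸ K) ∈ coPoints K S E s ↔ s ∈ sharedSet S E x := by
  obtain ⟨⟨k, hk⟩, hx⟩ := QuotientGroup.mk_out_eq_mul K x
  show s ∈ sharedSet S E _ ↔ _
  rw [hx, sharedSet_mul_right hE x hk]

variable [Finite G]

theorem ncard_coPoints_le {ι : Type*} [Fintype ι] {z : G} (L : Subgroup G) (hL : L ≤ K)
    (hE : ∀ k ∈ K, ∀ b ∈ E, k * b * k⁻¹ ∈ E) (hS : ∀ k ∈ K, ∀ s ∈ S, k * s * k⁻¹ ∈ S)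
    (hc : ∀ s ∈ S, ∃ k ∈ K, s = k * z * k⁻¹) (hz : z ∈ S)
    (g : ι → G) (n N : ι → ℕ)
    (hcov : ∀ x : G, ∃ j, ∃ l ∈ L, (x : G ⧸ K) = ((l * g j : G) : G ⧸ K))
    (hn : ∀ j, (Set.range fun l : L => ((l.1 * g j : G) : G ⧸ K)).ncard ≤ n j)
    (hN : ∀ j, (sharedSet S E (g j)).ncard ≤ N j) :
    S.ncard * (coPoints K S E z).ncard ≤ ∑ j, n j * N j := by
  classical
  haveI : Fintype G := Fintype.ofFinite G
  haveI : Fintype (G ⧸ K) := Fintype.ofFinite _
  have hsame : ∀ s ∈ S, (coPoints K S E s).ncard = (coPoints K S E z).ncard := by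
    intro s hs
    obtain ⟨k, hk, rfl⟩ := hc s hs
    have : coPoints K S E (k * z * k⁻¹) = (fun p => k • p) '' coPoints K S E z := by
      ext p
      induction p using QuotientGroup.induction_on with
      | H x =>
        rw [mem_coPoints hE]
        constructor
        · intro h
          refine ⟨((k⁻¹ * x : G) : G ⧸ K), ?_, by simp⟩
          rw [mem_coPoints hE, sharedSet_mul_left hS x (inv_mem hk)]
          exact ⟨_, h, by group⟩
        · rintro ⟨q, hq, hqx⟩
          induction q using QuotientGroup.induction_on with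
          | H y =>
            rw [mem_coPoints hE] at hq
            have hxy : (x : G ⧸ K) = ((k * y : G) : G ⧸ K) := hqx.symm
            obtain ⟨c, hc', hxy'⟩ : ∃ c ∈ K, k * y = x * c :=
              ⟨x⁻¹ * (k * y), QuotientGroup.eq.1 hxy, by group⟩
            rw [← sharedSet_mul_right hE x hc', ← hxy', sharedSet_mul_left hS y hk]
            exact ⟨z, hq, rfl⟩
    rw [this, Set.ncard_image_of_injective _ (MulAction.injective k)]
  let T : Finset (G ⧸ K) := Finset.univ
  have h1 : S.ncard * (coPoints K S E z).ncard = ∑ p ∈ T, (sharedSet S E p.out).ncard := by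
    have e1 : ∀ p : G ⧸ K, (sharedSet S E p.out).ncard =
        ∑ s ∈ S.toFinset, if p ∈ coPoints K S E s then 1 else 0 := by
      intro p
      rw [← Finset.card_filter, Set.ncard_eq_toFinset_card']
      congr 1
      ext s
      simp only [Set.mem_toFinset, Finset.mem_filter]
      exact ⟨fun h => ⟨h.1, h⟩, fun h => h.2⟩
    rw [Finset.sum_congr rfl (fun p _ => e1 p), Finset.sum_comm, Set.ncard_eq_toFinset_card' S,
      ← smul_eq_mul, ← Finset.sum_const]
    refine Finset.sum_congr rfl fun s hs => ?_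
    rw [← Finset.card_filter, ← hsame s (Set.mem_toFinset.1 hs), Set.ncard_eq_toFinset_card']
    congr 1
    ext p
    simp [T]
  rw [h1]
  let O : ι → Finset (G ⧸ K) := fun j => (Set.range fun l : L => ((l.1 * g j : G) : G ⧸ K)).toFinset
  calc ∑ p ∈ T, (sharedSet S E p.out).ncard
      ≤ ∑ p ∈ Finset.univ.biUnion O, (sharedSet S E p.out).ncard := by
        refine Finset.sum_le_sum_of_subset fun p _ => ?_
        induction p using QuotientGroup.induction_on with
        | H x =>
          obtain ⟨j, l, hl, hx⟩ := hcov x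
          exact Finset.mem_biUnion.2 ⟨j, Finset.mem_univ _, Set.mem_toFinset.2 ⟨⟨l, hl⟩, hx.symm⟩⟩
    _ ≤ ∑ j, ∑ p ∈ O j, (sharedSet S E p.out).ncard := sum_biUnion_le' _ _ _
    _ ≤ ∑ j, n j * N j := by
        refine Finset.sum_le_sum fun j _ => ?_
        refine (Finset.sum_le_card_nsmul (O j) _ (N j) fun p hp => ?_).trans ?_
        · obtain ⟨l, rfl⟩ := Set.mem_toFinset.1 hp
          obtain ⟨⟨k, hk⟩, hx⟩ := QuotientGroup.mk_out_eq_mul K (l.1 * g j)
          rw [hx, sharedSet_mul_right hE _ hk, sharedSet_mul_left hS _ (hL l.2),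
            Set.ncard_image_of_injective _ (fun a b h => by simpa using h)]
          exact hN j
        · rw [smul_eq_mul]
          refine Nat.mul_le_mul_right _ ?_
          have := hn j
          rwa [Set.ncard_eq_toFinset_card'] at this

omit [Finite G] in
/-- The class of the element in the subgroup gives the order of its centraliser there. -/
theorem card_inf_centralizer {z : G} (hS : ∀ k ∈ K, ∀ s ∈ S, k * s * k⁻¹ ∈ S)
    (hc : ∀ s ∈ S, ∃ k ∈ K, s = k * z * k⁻¹) (hz : z ∈ S) :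
    Nat.card K = S.ncard * Nat.card ↥(K ⊓ Subgroup.centralizer {z}) := by
  have hr : (Set.range fun k : K => (k : G) * z * (k : G)⁻¹) = S := by
    ext s
    exact ⟨by rintro ⟨k, rfl⟩; exact hS k k.2 z hz,
      fun h => by obtain ⟨k, hk, rfl⟩ := hc s h; exact ⟨⟨k, hk⟩, rfl⟩⟩
  rw [card_eq_of_fibres ((Subgroup.centralizer {z}).subgroupOf K)
    (fun k : K => (k : G) * z * (k : G)⁻¹) fun a b => ?_, hr]
  · congr 1
    refine Nat.card_congr ⟨fun x => ⟨x.1.1, x.1.2, x.2⟩, fun x => ⟨⟨x.1, x.2.1⟩, x.2.2⟩,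
      fun x => rfl, fun x => rfl⟩
  · rw [Subgroup.mem_subgroupOf, Subgroup.mem_centralizer_singleton_iff]
    push_cast
    constructor <;> intro h
    · calc (a : G)⁻¹ * b * z = (a : G)⁻¹ * ((b : G) * z * (b : G)⁻¹) * b := by group
        _ = _ := by rw [← h]; group
    · calc (a : G) * z * (a : G)⁻¹ = a * (z * ((a : G)⁻¹ * b)) * (b : G)⁻¹ := by group
        _ = _ := by rw [← h]; group

/-- The bound for the centraliser. -/
theorem card_centralizer_le {z : G} (hE : ∀ k ∈ K, ∀ b ∈ E, k * b * k⁻¹ ∈ E) (hz : z ∈ S)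
    (hzE : ∀ b ∈ E, Commute z b) :
    Nat.card (Subgroup.centralizer ({z} : Set G)) ≤
      (coPoints K S E z).ncard * Nat.card ↥(K ⊓ Subgroup.centralizer {z}) := by
  rw [card_eq_of_fibres (K.subgroupOf (Subgroup.centralizer {z}))
    (fun c : ↥(Subgroup.centralizer ({z} : Set G)) => ((c : G) : G ⧸ K)) fun a b => by
      rw [QuotientGroup.eq, Subgroup.mem_subgroupOf]; rfl]
  refine Nat.mul_le_mul (Set.ncard_le_ncard ?_ (Set.toFinite _)) (le_of_eq ?_)
  · rintro p ⟨⟨c, hc⟩, rfl⟩
    refine (mem_coPoints hE z c).2 ⟨hz, fun b hb => ?_⟩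
    have h := (commute_conj_iff c z b).2 (hzE b hb)
    rwa [show c * z * c⁻¹ = z by
      rw [Subgroup.mem_centralizer_singleton_iff.1 hc]; group] at h
  · exact Nat.card_congr ⟨fun x => ⟨x.1.1, x.2, x.1.2⟩, fun x => ⟨⟨x.1, x.2.2⟩, x.2.1⟩,
      fun x => rfl, fun x => rfl⟩

end CfsgLib.J4Cent
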