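import Cfsg.Agent.Lib.J4Cent.Cert
import Cfsg.Agent.Lib.J4Cent.Coset
import Cfsg.Agent.Lib.Golay.M24Gens
import Cfsg.Prelude.Def_Spor_Mathieu
import Mathlib.GroupTheory.Perm.Sign

/-!
# The action on twenty-two points
-/

set_option autoImplicit false
set_option maxRecDepth 100000

namespace CfsgLib.J4Cent

open Equiv Subgroup CfsgLib.Golay

/-- The permutation of the blocks by a generator. -/
def piP (k : ℕ) : Perm (Fin 22) := ((swapL.getD k []).map fun s => Equiv.swap s.1 s.2).prod

theorem piP_checks :
    ((List.range 4).all fun k => (List.finRange 22).all fun i =>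
      Nat.beq (piP k i).val ((piL.getD k []).getD i.val 0)) = true ∧
    (swapL.all fun l => l.all fun s => !(s.1 == s.2)) = true ∧
    swapL.map (fun l => l.length % 2) = [0, 1, 0, 0] ∧
    els22.take 3 = [piL.getD 0 [], piL.getD 2 [], piL.getD 3 []] ∧
    els22.length = slp22.length + 3 := by
  decide +kernel

theorem piP_apply {k : ℕ} (hk : k < 4) (i : Fin 22) : (piP k i).val = (piL.getD k []).getD i.val 0 :=
  Nat.eq_of_beq_eq_true (List.all_eq_true.1 (List.all_eq_true.1 piP_checks.1 k (List.mem_range.2 hk)) i
    (List.mem_finRange i))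

theorem sign_swaps : ∀ (l : List (Fin 22 × Fin 22)), (l.all fun s => !(s.1 == s.2)) = true →
    Perm.sign (l.map fun s => Equiv.swap s.1 s.2).prod = (-1) ^ l.length
  | [], _ => by simp
  | s :: l, h => by
    simp only [List.all_cons, Bool.and_eq_true, Bool.not_eq_true', beq_eq_false_iff_ne] at h
    rw [List.map_cons, List.prod_cons, map_mul, Perm.sign_swap h.1,
      sign_swaps l (by simpa using h.2), List.length_cons, pow_succ']

theorem sign_piP {k : ℕ} (hk : k < 4) :
    Perm.sign (piP k) = if k = 1 then -1 else 1 := by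
  obtain ⟨-, hne, hlen, -⟩ := piP_checks
  have hl : swapL.length = 4 := by simpa using congrArg List.length hlen
  rw [piP, sign_swaps _ (List.all_eq_true.1 hne _ (by
    rw [List.getD_eq_getElem _ _ (by omega)]; exact List.getElem_mem _)), Int.units_pow_eq_pow_mod_two]
  have e : (swapL.getD k []).length % 2 = [0, 1, 0, 0].getD k 0 := by
    rw [← hlen, List.getD_eq_getElem _ _ (by omega), List.getD_eq_getElem _ _ (by simp; omega),
      List.getElem_map]
  rw [e]
  interval_cases k <;> simp

/-- The even generators. -/
def evenGens : Set (Perm (Fin 22)) := {piP 0, piP 2, piP 3}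

theorem slp_checks :
    ((List.range slp22.length).all fun k =>
      Nat.blt (slp22.getD k (0, 0)).1 (k + 3) && Nat.blt (slp22.getD k (0, 0)).2 (k + 3) &&
      (List.range 22).all fun i => Nat.beq ((els22.getD (k + 3) []).getD i 0)
        ((els22.getD (slp22.getD k (0, 0)).1 []).getD ((els22.getD (slp22.getD k (0, 0)).2 []).getD i 0) 0)) = true ∧
    (els22.all fun L => Nat.beq L.length 22) = true := by
  decide +kernel

theorem els_mem : ∀ k < els22.length, ∃ p ∈ closure evenGens,
    ∀ i : Fin 22, (p i).val = (els22.getD k []).getD i.val 0 := by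
  intro k
  induction k using Nat.strong_induction_on with
  | _ k ih =>
    intro hk
    obtain ⟨-, -, -, h3, hlen⟩ := piP_checks
    by_cases h : k < 3
    · have e : els22.getD k [] = [piL.getD 0 [], piL.getD 2 [], piL.getD 3 []].getD k [] := by
        rw [← h3, List.getD_eq_getElem _ _ hk, List.getD_eq_getElem _ _ (by simp; omega), List.getElem_take]
      rw [e]
      interval_cases k
      exacts [⟨_, subset_closure (Or.inl rfl), piP_apply (by norm_num)⟩,
        ⟨_, subset_closure (Or.inr (Or.inl rfl)), piP_apply (by norm_num)⟩,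
        ⟨_, subset_closure (Or.inr (Or.inr rfl)), piP_apply (by norm_num)⟩]
    · have hc := List.all_eq_true.1 slp_checks.1 (k - 3) (List.mem_range.2 (by omega))
      simp only [Bool.and_eq_true, List.all_eq_true, List.mem_range, Nat.beq_eq,
        show k - 3 + 3 = k by omega] at hc
      obtain ⟨⟨ha, hb⟩, he⟩ := hc
      have ha' := Nat.le_of_ble_eq_true ha
      have hb' := Nat.le_of_ble_eq_true hb
      obtain ⟨p, hp, hp'⟩ := ih _ (show _ < k from ha') (by omega)
      obtain ⟨q, hq, hq'⟩ := ih _ (show _ < k from hb') (by omega)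
      refine ⟨p * q, mul_mem hp hq, fun i => ?_⟩
      rw [he i.val i.isLt, Perm.mul_apply, hp', hq']

/-- The checks of the transversals. -/
def lvOk : List ℕ → List (ℕ × List ℕ) → Bool
  | _, [] => true
  | fx, (b, ts) :: r =>
    Nat.blt b 22 && (b :: ts.map fun t => (els22.getD t []).getD b 0).Nodup &&
      (ts.all fun t => Nat.blt t els22.length && fx.all fun a => Nat.beq ((els22.getD t []).getD a 0) a) &&
      lvOk (b :: fx) r

/-- The product of the sizes. -/
def lvSize : List (ℕ × List ℕ) → ℕ
  | [] => 1
  | (_, ts) :: r => (ts.length + 1) * lvSize r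

theorem level_checks : lvOk [] levels22 = true ∧ lvSize levels22 = 443520 := by decide +kernel

/-- The members fixing the listed points. -/
def fixList (fx : List ℕ) : Subgroup (Perm (Fin 22)) where
  carrier := {p | ∀ i : Fin 22, i.val ∈ fx → p i = i}
  one_mem' := fun _ _ => rfl
  mul_mem' {p q} hp hq i hi := by rw [Perm.mul_apply, hq i hi, hp i hi]
  inv_mem' {p} hp i hi := by rw [Perm.inv_eq_iff_eq, hp i hi]

theorem chain_lower : ∀ (r : List (ℕ × List ℕ)) (fx : List ℕ), lvOk fx r = true →
    lvSize r ≤ Nat.card ↥(closure evenGens ⊓ fixList fx)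
  | [], fx, _ => Nat.card_pos
  | (b, ts) :: r, fx, h => by
    simp only [lvOk, Bool.and_eq_true, decide_eq_true_eq, List.all_eq_true, Nat.beq_eq] at h
    obtain ⟨⟨⟨hb, hnd⟩, hts⟩, hr⟩ := h
    have hb' : b < 22 := Nat.le_of_ble_eq_true hb
    let B : Fin 22 := ⟨b, hb'⟩
    let H := closure evenGens ⊓ fixList fx
    have ih := chain_lower r (b :: fx) hr
    rw [lvSize, card_eq_of_fibres ((closure evenGens ⊓ fixList (b :: fx)).subgroupOf H)
      (fun p : H => (p.1 B).val) fun p q => ?_]
    · refine Nat.mul_le_mul ?_ (ih.trans (le_of_eq ?_))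
      · have hsub : (((b :: ts.map fun t => (els22.getD t []).getD b 0).toFinset : Finset ℕ) : Set ℕ) ⊆
            Set.range fun p : H => (p.1 B).val := by
          intro x hx
          simp only [List.coe_toFinset, List.mem_cons, List.mem_map, Set.mem_setOf_eq] at hx
          rcases hx with rfl | ⟨t, ht, rfl⟩
          · exact ⟨⟨1, one_mem H⟩, rfl⟩
          · obtain ⟨htlt, hfix⟩ := hts t ht
            obtain ⟨p, hp, hp'⟩ := els_mem t (Nat.le_of_ble_eq_true htlt)
            exact ⟨⟨p, hp, fun i hi => Fin.ext (by rw [hp' i]; exact hfix i.val hi)⟩, hp' B⟩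
        have := Set.ncard_le_ncard hsub (Set.toFinite _)
        rw [Set.ncard_coe_finset, List.toFinset_card_of_nodup hnd] at this
        simpa using this
      · have hle : fixList (b :: fx) ≤ fixList fx := fun p hp i hi =>
          hp i (List.mem_cons_of_mem _ hi)
        exact (Nat.card_congr (subgroupOfEquivOfLe (inf_le_inf_left (closure evenGens) hle)).toEquiv).symm
    · rw [mem_subgroupOf, mem_inf]
      push_cast
      constructor
      · intro e
        refine ⟨mul_mem (inv_mem p.2.1) q.2.1, fun i hi => ?_⟩
        rcases List.mem_cons.1 hi with hi | hi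
        · rw [show i = B from Fin.ext hi, Perm.mul_apply, Perm.inv_eq_iff_eq]
          exact Fin.ext e.symm
        · exact (fixList fx).mul_mem ((fixList fx).inv_mem p.2.2) q.2.2 i hi
      · intro e
        have := e.2 B List.mem_cons_self
        rw [Perm.mul_apply, Perm.inv_eq_iff_eq] at this
        rw [this]

theorem card_even : 443520 ≤ Nat.card (closure evenGens) :=
  level_checks.2 ▸ (chain_lower levels22 [] level_checks.1).trans
    (Nat.card_le_card_of_injective _ (inclusion_injective inf_le_left))

/-- The point of a block among the twenty-four. -/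
def sigPt (i : Fin 22) : {p : Cfsg.GolayPt // p ≠ none ∧ p ≠ some 0} :=
  if h : (pt (sigma22.getD i.val 0) ≠ none ∧ pt (sigma22.getD i.val 0) ≠ some 0) then ⟨_, h⟩
  else ⟨some 1, by decide⟩

theorem sigPt_checks : Function.Bijective sigPt := by
  refine ⟨?_, ?_⟩
  · unfold Function.Injective; decide +kernel
  · unfold Function.Surjective; decide +kernel

theorem ext_checks : ((List.range 3).all fun k => m24Test (ext24.getD k []) &&
    Nat.beq ((ext24.getD k []).getD 0 0) 0 && Nat.beq ((ext24.getD k []).getD 23 0) 23 &&
    (List.finRange 22).all fun i => Nat.beq ((ext24.getD k []).getD (ptEquiv (sigPt i).1).val 0)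
      (ptEquiv (sigPt (piP ([0, 2, 3].getD k 0) i)).1).val) = true := by
  decide +kernel

/-- The bijection of the blocks with twenty-two of the points. -/
noncomputable def sigE : Fin 22 ≃ {p : Cfsg.GolayPt // p ≠ none ∧ p ≠ some 0} :=
  Equiv.ofBijective sigPt sigPt_checks

/-- The permutations of the twenty-four points. -/
noncomputable def iota : Perm (Fin 22) →* Perm Cfsg.GolayPt := Perm.extendDomainHom sigE

theorem iota_injective : Function.Injective iota := Perm.extendDomainHom_injective sigE

theorem iota_mem : ∀ p ∈ evenGens, iota p ∈ Cfsg.Spor.M22 := by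
  have key : ∀ k < 3, iota (piP ([0, 2, 3].getD k 0)) ∈ Cfsg.Spor.M22 := by
    intro k hk
    have h := List.all_eq_true.1 ext_checks k (List.mem_range.2 hk)
    simp only [Bool.and_eq_true, List.all_eq_true, Nat.beq_eq] at h
    obtain ⟨⟨⟨ht, h0⟩, h23⟩, hi⟩ := h
    have hv : validL 24 (ext24.getD k []) = true := by
      simp only [m24Test, Bool.and_eq_true] at ht; exact ht.1
    have hsome : iota (piP ([0, 2, 3].getD k 0)) none = none ∧
        iota (piP ([0, 2, 3].getD k 0)) (some 0) = some 0 :=
      ⟨Perm.extendDomain_apply_not_subtype _ _ (by simp), Perm.extendDomain_apply_not_subtype _ _ (by simp)⟩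
    have e : iota (piP ([0, 2, 3].getD k 0)) = permOf ptEquiv (ext24.getD k []) := by
      refine perm_eq_permOf hv fun p => ?_
      by_cases hp : p ≠ none ∧ p ≠ some 0
      · obtain ⟨i, hi'⟩ := sigE.surjective ⟨p, hp⟩
        have e1 : p = (sigE i).1 := by rw [hi']
        subst e1
        rw [show iota (piP _) (sigE i).1 = (sigE (piP _ i)).1 from
          Perm.extendDomain_apply_image _ sigE i]
        exact (hi i (List.mem_finRange i)).symm
      · rcases not_and_or.1 hp with hn | hn <;> (push Not at hn; subst hn)
        · rw [hsome.1, show (ptEquiv (none : Cfsg.GolayPt)).val = 23 from rfl, h23]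
        · rw [hsome.2, show (ptEquiv (some 0 : Cfsg.GolayPt)).val = 0 from rfl, h0]
    exact ⟨⟨e ▸ mem_M24_of_test ht, hsome.1⟩, hsome.2⟩
  rintro p (rfl | rfl | rfl)
  exacts [key 0 (by norm_num), key 1 (by norm_num), key 2 (by norm_num)]

end CfsgLib.J4Cent
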