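import Cfsg.Agent.Lib.J4Cent.QNorm
import Cfsg.Agent.Lib.J4Cent.Points

/-!
# The action on the orbit and on its twenty-two blocks
-/

set_option autoImplicit false
set_option maxRecDepth 100000

namespace CfsgLib.J4Cent

open Cfsg.Spor CfsgLib.J4P Matrix

/-- A point of the orbit. -/
def opt (j : ℕ) : Fin 112 → ZMod 2 := vz (orbit77.getD j 0)

/-- A block. -/
def blk (i : Fin 22) : Set (Fin 112 → ZMod 2) := opt '' {j | j ∈ blockL.getD i.val []}

/-- The words of the generators of the centraliser. -/
def hWords : List (List ℕ) := [[17], [18], [2], [9], wThree] ++ qWord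

/-- The generated subgroup. -/
noncomputable def h4 : Subgroup G4 := Subgroup.closure (el '' {w | w ∈ hWords})

theorem orbit_tree_checks :
    ((List.range 76).all fun k =>
      let p := orbitTree.getD k (0, 0)
      Nat.blt p.1 (k + 1) && ([[17], [18], [2], [9]] : List (List ℕ)).contains [p.2] &&
        Nat.beq (act (orbit77.getD p.1 0) [p.2]) (orbit77.getD (k + 1) 0)) = true ∧
    orbit77.Nodup ∧ orbit77.length = 77 ∧ orbitTree.length = 76 ∧
    (orbit77.all fun v => Nat.blt v (2 ^ 112)) = true ∧
    orbit77.getD 0 0 = vZero ∧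
    ([0, 2, 6] : List ℕ).all (fun g => Nat.beq (act vZero [g]) vZero) = true := by
  decide +kernel

theorem block_checks :
    ((List.range 4).all fun k => okW (invWord [genH.getD k 0]) && okW [genH.getD k 0] &&
      (List.range 77).all fun j => Nat.blt ((sigL.getD k []).getD j 0) 77 &&
        Nat.beq (act (orbit77.getD j 0) (invWord [genH.getD k 0]))
          (orbit77.getD ((sigL.getD k []).getD j 0) 0)) = true ∧
    ((List.range 4).all fun k => (List.range 22).all fun i =>
      decide (((blockL.getD i []).map fun j => (sigL.getD k []).getD j 0).toFinset =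
        (blockL.getD ((piL.getD k []).getD i 0) []).toFinset)) = true ∧
    ((List.range 22).all fun i => (blockL.getD i []).all fun j => Nat.blt j 77) = true ∧
    ((List.range 22).all fun i => (List.range i).all fun j =>
      !decide ((blockL.getD i []).toFinset = (blockL.getD j []).toFinset)) = true ∧
    ((wThree :: qWord).all fun w => okW w && okW (invWord w) && (List.range 77).all fun j =>
      Nat.beq (act (orbit77.getD j 0) (invWord w)) (orbit77.getD j 0)) = true ∧
    (hWords.all fun w => okW w && sameW (w ++ [6]) ([6] ++ w)) = true := by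
  decide +kernel

theorem w_checks : sameW (wThree ++ wThree ++ wThree) [] = true ∧
    ((List.range 112).any fun b => !(Nat.beq (act (2 ^ b) wThree) (2 ^ b))) = true := by
  decide +kernel

theorem opt_inj {a b : ℕ} (ha : a < 77) (hb : b < 77) (h : opt a = opt b) : a = b := by
  obtain ⟨-, hnd, hl, -, hlt, -⟩ := orbit_tree_checks
  have hlt' : ∀ j < 77, orbit77.getD j 0 < 2 ^ 112 := fun j hj => by
    rw [List.getD_eq_getElem _ _ (hl ▸ hj)]
    exact Nat.le_of_ble_eq_true (List.all_eq_true.1 hlt _ (List.getElem_mem _))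
  have e := vz_inj (hlt' a ha) (hlt' b hb) h
  rw [List.getD_eq_getElem _ _ (hl ▸ ha), List.getD_eq_getElem _ _ (hl ▸ hb)] at e
  exact (hnd.getElem_inj_iff).1 e

theorem blk_inj : Function.Injective blk := by
  obtain ⟨-, -, hb, hne, -, -⟩ := block_checks
  simp only [List.all_eq_true, List.mem_range, Bool.not_eq_true', decide_eq_false_iff_not] at hb hne
  intro a c h
  have e : (blockL.getD a.val []).toFinset = (blockL.getD c.val []).toFinset := by
    ext j
    rw [List.mem_toFinset, List.mem_toFinset]
    constructor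
    · intro hj
      obtain ⟨j', hj', e⟩ : opt j ∈ blk c := h ▸ ⟨j, hj, rfl⟩
      rwa [← opt_inj (Nat.le_of_ble_eq_true (hb _ c.isLt _ hj')) (Nat.le_of_ble_eq_true (hb _ a.isLt _ hj)) e]
    · intro hj
      obtain ⟨j', hj', e⟩ : opt j ∈ blk a := h.symm ▸ ⟨j, hj, rfl⟩
      rwa [← opt_inj (Nat.le_of_ble_eq_true (hb _ a.isLt _ hj')) (Nat.le_of_ble_eq_true (hb _ c.isLt _ hj)) e]
  rcases lt_trichotomy a.val c.val with l | l | l
  · exact absurd e.symm (hne c.val c.isLt a.val l)
  · exact Fin.ext l
  · exact absurd e (hne a.val a.isLt c.val l)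

/-- The element induces the permutation on the blocks. -/
def Induces (x : G4) (π : Equiv.Perm (Fin 22)) : Prop :=
  ∀ i, (fun v => v ᵥ* mat x⁻¹) '' blk i = blk (π i)

theorem induces_one : Induces 1 1 := fun i => by simp [mat_one]

theorem induces_mul {x y : G4} {a b : Equiv.Perm (Fin 22)} (hx : Induces x a) (hy : Induces y b) :
    Induces (x * y) (a * b) := fun i => by
  rw [Equiv.Perm.mul_apply, ← hx (b i), ← hy i, Set.image_image]
  refine Set.image_congr fun v _ => ?_
  rw [vecMul_vecMul, ← mat_mul, ← _root_.mul_inv_rev]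

theorem induces_inv {x : G4} {a : Equiv.Perm (Fin 22)} (hx : Induces x a) : Induces x⁻¹ a⁻¹ := fun i => by
  have h := hx (a⁻¹ i)
  rw [Equiv.Perm.inv_def, Equiv.apply_symm_apply] at h
  rw [← h, Set.image_image, inv_inv, Equiv.Perm.inv_def]
  conv_rhs => rw [← Set.image_id (blk (a.symm i))]
  refine Set.image_congr fun v _ => ?_
  rw [vecMul_vecMul, ← mat_mul, inv_mul_cancel, mat_one, vecMul_one]
  rfl

theorem induces_unique {x : G4} {a b : Equiv.Perm (Fin 22)} (ha : Induces x a) (hb : Induces x b) :
    a = b := Equiv.ext fun i => blk_inj ((ha i).symm.trans (hb i))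

theorem induces_gen {k : ℕ} (hk : k < 4) : Induces (el [genH.getD k 0]) (piP k) := by
  obtain ⟨hs, hp, hb, -, -, -⟩ := block_checks
  simp only [List.all_eq_true, List.mem_range, Bool.and_eq_true, Nat.beq_eq, decide_eq_true_eq] at hs hp hb
  obtain ⟨⟨hok, hok'⟩, hs'⟩ := hs k hk
  intro i
  have e : blk (piP k i) = opt '' {j | j ∈ (blockL.getD i.val []).map fun j => (sigL.getD k []).getD j 0} := by
    rw [blk, piP_apply hk i]
    congr 1
    ext j
    have := hp k hk i.val i.isLt
    simp only [Set.mem_setOf_eq]
    rw [← List.mem_toFinset, ← this, List.mem_toFinset]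
  rw [e, blk, Set.image_image, show {j | j ∈ (blockL.getD i.val []).map fun j => (sigL.getD k []).getD j 0} =
      (fun j => (sigL.getD k []).getD j 0) '' {j | j ∈ blockL.getD i.val []} by ext; simp, Set.image_image]
  refine Set.image_congr fun j hj => ?_
  rw [opt, opt, ← (hs' j (Nat.le_of_ble_eq_true (hb i.val i.isLt j hj))).2, vz_act _ hok,
    el_invWord _ hok']

theorem induces_kernel {w : List ℕ} (hw : w ∈ wThree :: qWord) : Induces (el w) 1 := by
  obtain ⟨-, -, hb, -, hf, -⟩ := block_checks
  simp only [List.all_eq_true, List.mem_range, Bool.and_eq_true, Nat.beq_eq] at hb hf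
  obtain ⟨⟨hok, hok'⟩, hf'⟩ := hf w hw
  intro i
  rw [blk, Set.image_image, Equiv.Perm.one_apply, blk]
  refine Set.image_congr fun j hj => ?_
  rw [opt, ← el_invWord _ hok, ← vz_act _ hok', hf' j (Nat.le_of_ble_eq_true (hb i.val i.isLt j hj))]

theorem induces_exists {x : G4} (hx : x ∈ h4) : ∃ π, Induces x π := by
  induction hx using Subgroup.closure_induction with
  | mem g hg =>
    obtain ⟨w, hw, rfl⟩ := hg
    simp only [hWords, Set.mem_setOf_eq, List.mem_append, List.mem_cons, List.not_mem_nil, or_false] at hw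
    rcases hw with (rfl | rfl | rfl | rfl | rfl) | hw
    · exact ⟨_, induces_gen (k := 0) (by norm_num)⟩
    · exact ⟨_, induces_gen (k := 1) (by norm_num)⟩
    · exact ⟨_, induces_gen (k := 2) (by norm_num)⟩
    · exact ⟨_, induces_gen (k := 3) (by norm_num)⟩
    · exact ⟨1, induces_kernel List.mem_cons_self⟩
    · exact ⟨1, induces_kernel (List.mem_cons_of_mem _ hw)⟩
  | one => exact ⟨1, induces_one⟩
  | mul g g' _ _ e e' => obtain ⟨a, ha⟩ := e; obtain ⟨b, hb⟩ := e'; exact ⟨_, induces_mul ha hb⟩
  | inv g _ e => obtain ⟨a, ha⟩ := e; exact ⟨_, induces_inv ha⟩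

/-- The homomorphism to the permutations of the blocks. -/
noncomputable def psi : ↥h4 →* Equiv.Perm (Fin 22) where
  toFun x := Classical.choose (induces_exists x.2)
  map_one' := induces_unique (Classical.choose_spec (induces_exists (one_mem h4))) induces_one
  map_mul' x y := induces_unique (Classical.choose_spec (induces_exists (mul_mem x.2 y.2)))
    (induces_mul (Classical.choose_spec (induces_exists x.2)) (Classical.choose_spec (induces_exists y.2)))

theorem psi_eq {x : ↥h4} {π : Equiv.Perm (Fin 22)} (h : Induces x.1 π) : psi x = π :=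
  induces_unique (Classical.choose_spec (induces_exists x.2)) h

end CfsgLib.J4Cent
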