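import Cfsg.Prelude.Def_Sporadic
import Cfsg.Prelude.Def_Spor_Mathieu
import Cfsg.Prelude.Def_Transfer
import Cfsg.Agent.Lib.Golay.Spor
import Mathlib.GroupTheory.Perm.Sign
import Mathlib.GroupTheory.QuotientGroup.Basic

/-!
# An extension of the Mathieu group on twenty-two points from a permutation action
-/

set_option autoImplicit false

namespace CfsgLib.J4Cent

open Subgroup Equiv

theorem assemble {C : Type} [Group C] [Finite C] (hC : Nat.card C = 21799895040)
    (Q : Subgroup C) (hQn : Q.Normal) (hQ : Nat.card Q = 2 ^ 13) (hQe : Cfsg.IsExtraspecial 2 Q)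
    (ψ : C →* Perm (Fin 22)) (hQk : Q ≤ ψ.ker) (w : C) (hw : orderOf w = 3) (hwk : w ∈ ψ.ker)
    (o : C) (ho : Perm.sign (ψ o) = -1) (A : Set C) (hA : ∀ a ∈ A, Perm.sign (ψ a) = 1)
    (hcard : 443520 ≤ Nat.card (closure (ψ '' A)))
    (ι : Perm (Fin 22) →* Perm Cfsg.GolayPt) (hι : Function.Injective ι)
    (hM : ∀ a ∈ A, ι (ψ a) ∈ Cfsg.Spor.M22) :
    ∃ (Q N M : Subgroup C), Q.Normal ∧ N.Normal ∧ Q ≤ N ∧ N ≤ M ∧ Nat.card Q = 2 ^ 13 ∧
      Cfsg.IsExtraspecial 2 Q ∧ Nat.card N = 3 * 2 ^ 13 ∧ M.index = 2 ∧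
      ∃ (_ : (N.subgroupOf M).Normal), Cfsg.IsM22 (M ⧸ N.subgroupOf M) := by
  set f : C →* ℤˣ := (Perm.sign : Perm (Fin 22) →* ℤˣ).comp ψ with hf
  have hsurj : Function.Surjective f := by
    intro u
    rcases Int.units_eq_one_or u with rfl | rfl
    exacts [⟨1, map_one f⟩, ⟨o, ho⟩]
  set N := ψ.ker
  set M := f.ker
  have hNM : N ≤ M := fun x hx => by
    rw [MonoidHom.mem_ker] at hx ⊢
    simp [hf, hx]
  have hMi : M.index = 2 := by
    rw [Subgroup.index_ker, MonoidHom.range_eq_top.2 hsurj, Subgroup.card_top,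
      Nat.card_eq_fintype_card, Fintype.card_units_int]
  have hN : 3 * 2 ^ 13 ∣ Nat.card N := by
    refine Nat.Coprime.mul_dvd_of_dvd_of_dvd (by norm_num) ?_ (hQ ▸ card_dvd_of_le hQk)
    rw [← hw, ← Nat.card_zpowers]
    exact card_dvd_of_le ((zpowers_le (H := N)).2 hwk)
  have hle : closure (ψ '' A) ≤ M.map ψ := by
    rw [closure_le]
    rintro _ ⟨a, ha, rfl⟩
    exact ⟨a, hA a ha, rfl⟩
  -- sizes
  have hMN : Nat.card M = Nat.card (M.map ψ) * Nat.card N := by
    let g : ↥M →* Perm (Fin 22) := ψ.comp M.subtype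
    have e1 : g.range = M.map ψ := by
      rw [MonoidHom.range_comp, Subgroup.range_subtype]
    have e2 : g.ker = N.subgroupOf M := rfl
    rw [card_eq_card_quotient_mul_card_subgroup g.ker,
      Nat.card_congr (QuotientGroup.quotientKerEquivRange g).toEquiv, e1, e2,
      Nat.card_congr (subgroupOfEquivOfLe hNM).toEquiv]
  have hCM : Nat.card C = 2 * Nat.card M := by rw [← hMi, Subgroup.index_mul_card]
  have hN' : 24576 ≤ Nat.card N := Nat.le_of_dvd Nat.card_pos hN
  have hI : 443520 ≤ Nat.card (M.map ψ) :=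
    hcard.trans (Nat.card_le_card_of_injective _ (Subgroup.inclusion_injective hle))
  have hM2 : Nat.card M = 10899947520 := by omega
  have e1 : Nat.card N = 24576 := by
    refine le_antisymm ?_ hN'
    by_contra h
    have := Nat.mul_le_mul hI (Nat.lt_of_not_le h)
    omega
  have e2 : Nat.card (M.map ψ) = 443520 := by
    rw [e1] at hMN
    omega
  have e3 : closure (ψ '' A) = M.map ψ := eq_of_le_of_card_ge hle (e2 ▸ hcard)
  refine ⟨Q, N, M, hQn, inferInstance, hQk, hNM, hQ, hQe, e1, hMi, inferInstance, ?_⟩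
  let g : ↥M →* Perm (Fin 22) := ψ.comp M.subtype
  have hgr : g.range = M.map ψ := by rw [MonoidHom.range_comp, Subgroup.range_subtype]
  have himg : (M.map ψ).map ι = Cfsg.Spor.M22 := by
    refine eq_of_le_of_card_ge ?_ ?_
    · rw [← e3, MonoidHom.map_closure, closure_le]
      rintro _ ⟨_, ⟨a, ha, rfl⟩, rfl⟩
      exact hM a ha
    · rw [Subgroup.card_map_of_injective hι, e2, CfsgLib.Golay.card_sporM22]
  let e : ↥M ⧸ g.ker ≃* ↥Cfsg.Spor.M22 :=
    (QuotientGroup.quotientKerEquivRange g).trans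
      ((MulEquiv.subgroupCongr hgr).trans
        (((M.map ψ).equivMapOfInjective ι hι).trans (MulEquiv.subgroupCongr himg)))
  haveI := CfsgLib.Golay.sporM22_simple
  exact ⟨e.isSimpleGroup, by
    exact (Nat.card_congr e.toEquiv).trans CfsgLib.Golay.card_sporM22⟩

end CfsgLib.J4Cent
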