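import Cfsg.Agent.Lib.J4Cent.Fixed
import Cfsg.Agent.Lib.J4Index.Index
import Cfsg.Agent.Lib.J4G.Export

/-!
# The cosets covered by twenty orbits with known bounds
-/

set_option autoImplicit false
set_option maxRecDepth 100000
set_option linter.style.longLine false

namespace CfsgLib.J4Cent

open Cfsg.Spor CfsgLib.J4P
open CfsgLib.HNxyz (evalW)
open CfsgLib.J4Index (j4Ctx kp)

/-- The point of a word. -/
noncomputable def wPt (w : List ℕ) : Cfsg.Spor.J4 ⧸ kp := (((w.map jBase).prod : Cfsg.Spor.J4) : Cfsg.Spor.J4 ⧸ kp)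

theorem evalW_base : ∀ {f : List ℕ}, (∀ l ∈ f, l < 4) →
    evalW (eltL [j4Ctx.a, j4Ctx.b]) f = (f.map jBase).prod
  | [], _ => rfl
  | g :: f, h => by
    have hg := h g List.mem_cons_self
    rw [CfsgLib.HNxyz.evalW_cons, evalW_base fun a ha => h a (List.mem_cons_of_mem _ ha),
      List.map_cons, List.prod_cons]
    congr 1
    interval_cases g <;> rfl

theorem step_pt {q : Cfsg.Spor.J4 ⧸ kp} {f : List ℕ} (w : List ℕ) (hq : q = wPt f)
    (hw : ((CfsgLib.J4Index.flat w).all fun l => Nat.blt l 4) = true) :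
    j4Ctx.t • CfsgLib.J4Index.Ctx.W j4Ctx w • q = wPt (4 :: (CfsgLib.J4Index.flat w ++ f)) := by
  have hw' : ∀ l ∈ CfsgLib.J4Index.flat w, l < 4 := fun l hl =>
    Nat.le_of_ble_eq_true (List.all_eq_true.1 hw l hl)
  rw [CfsgLib.J4Index.Ctx.W, CfsgLib.J4Index.wv_flat, evalW_base hw', hq, wPt, wPt, List.map_cons,
    List.prod_cons, List.map_append, List.prod_append]
  rfl

theorem eq0 : CfsgLib.J4Index.v0 j4Ctx = wPt (orbWord.getD 0 []) := rfl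

theorem pre0 : CfsgLib.J4Index.v0 j4Ctx = wPt [] := rfl

theorem pre1 : CfsgLib.J4Index.v1 j4Ctx = wPt (orbWord.getD 1 []) :=
  (step_pt [] pre0 (by decide +kernel)).trans (congrArg wPt (eq_of_beq (by decide +kernel)))

theorem eq1 : CfsgLib.J4Index.v1 j4Ctx = wPt (orbWord.getD 1 []) := pre1

theorem pre2 : CfsgLib.J4Index.v2 j4Ctx = wPt (orbWord.getD 2 []) :=
  (step_pt [7] pre1 (by decide +kernel)).trans (congrArg wPt (eq_of_beq (by decide +kernel)))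

theorem eq2 : CfsgLib.J4Index.v2 j4Ctx = wPt (orbWord.getD 2 []) := pre2

theorem pre3 : CfsgLib.J4Index.v3 j4Ctx = wPt (orbWord.getD 3 []) :=
  (step_pt [20, 40, 66, 78, 91, 109, 118] pre2 (by decide +kernel)).trans (congrArg wPt (eq_of_beq (by decide +kernel)))

theorem eq3 : CfsgLib.J4Index.v3 j4Ctx = wPt (orbWord.getD 3 []) := pre3

theorem pre4 : CfsgLib.J4Index.v4 j4Ctx = wPt (orbWord.getD 4 []) :=
  (step_pt [20] pre1 (by decide +kernel)).trans (congrArg wPt (eq_of_beq (by decide +kernel)))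

theorem eq4 : CfsgLib.J4Index.v4 j4Ctx = wPt (orbWord.getD 4 []) := pre4

theorem pre5 : CfsgLib.J4Index.v5 j4Ctx = wPt (orbWord.getD 5 []) :=
  (step_pt [18, 44] pre2 (by decide +kernel)).trans (congrArg wPt (eq_of_beq (by decide +kernel)))

theorem eq5 : CfsgLib.J4Index.v5 j4Ctx = wPt (orbWord.getD 5 []) := pre5

theorem pre6 : CfsgLib.J4Index.v6 j4Ctx = wPt (orbWord.getD 6 []) :=
  (step_pt [10, 50] pre5 (by decide +kernel)).trans (congrArg wPt (eq_of_beq (by decide +kernel)))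

theorem eq6 : CfsgLib.J4Index.v6 j4Ctx = wPt (orbWord.getD 6 []) := pre6

theorem pre7 : CfsgLib.J4Index.v7 j4Ctx = wPt (orbWord.getD 7 []) :=
  (step_pt [10, 34, 60] pre6 (by decide +kernel)).trans (congrArg wPt (eq_of_beq (by decide +kernel)))

theorem eq7 : CfsgLib.J4Index.v7 j4Ctx = wPt (orbWord.getD 7 []) := pre7

theorem pre8 : CfsgLib.J4Index.v8 j4Ctx = wPt (orbWord.getD 8 []) :=
  (step_pt [20, 50] pre7 (by decide +kernel)).trans (congrArg wPt (eq_of_beq (by decide +kernel)))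

theorem eq8 : CfsgLib.J4Index.v8 j4Ctx = wPt (orbWord.getD 8 []) := pre8

theorem pre9 : CfsgLib.J4Index.v9 j4Ctx = wPt (orbWord.getD 9 []) :=
  (step_pt [6, 34] pre8 (by decide +kernel)).trans (congrArg wPt (eq_of_beq (by decide +kernel)))

theorem eq9 : CfsgLib.J4Index.v9 j4Ctx = wPt (orbWord.getD 9 []) := pre9

theorem pre10 : CfsgLib.J4Index.v10 j4Ctx = wPt (orbWord.getD 10 []) :=
  (step_pt [21, 44] pre8 (by decide +kernel)).trans (congrArg wPt (eq_of_beq (by decide +kernel)))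

theorem eq10 : CfsgLib.J4Index.v10 j4Ctx = wPt (orbWord.getD 10 []) := pre10

theorem pre11 : CfsgLib.J4Index.v11 j4Ctx = wPt (4 :: (CfsgLib.J4Index.flat [35, 66, 84, 105, 109, 115] ++ (orbWord.getD 10 []))) :=
  (step_pt [35, 66, 84, 105, 109, 115] pre10 (by decide +kernel)).trans (congrArg wPt (eq_of_beq (by decide +kernel)))

theorem pre12 : CfsgLib.J4Index.v12 j4Ctx = wPt (orbWord.getD 11 []) :=
  (step_pt [6] pre11 (by decide +kernel)).trans (congrArg wPt (eq_of_beq (by decide +kernel)))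

theorem eq12 : CfsgLib.J4Index.v12 j4Ctx = wPt (orbWord.getD 11 []) := pre12

theorem pre13 : CfsgLib.J4Index.v13 j4Ctx = wPt (orbWord.getD 12 []) :=
  (step_pt [14, 48, 64, 73, 93, 109, 113] pre12 (by decide +kernel)).trans (congrArg wPt (eq_of_beq (by decide +kernel)))

theorem eq13 : CfsgLib.J4Index.v13 j4Ctx = wPt (orbWord.getD 12 []) := pre13

theorem pre14 : CfsgLib.J4Index.v14 j4Ctx = wPt (orbWord.getD 13 []) :=
  (step_pt [7, 43] pre12 (by decide +kernel)).trans (congrArg wPt (eq_of_beq (by decide +kernel)))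

theorem eq14 : CfsgLib.J4Index.v14 j4Ctx = wPt (orbWord.getD 13 []) := pre14

theorem pre15 : CfsgLib.J4Index.v15 j4Ctx = wPt (orbWord.getD 14 []) :=
  (step_pt [24, 45] pre5 (by decide +kernel)).trans (congrArg wPt (eq_of_beq (by decide +kernel)))

theorem eq15 : CfsgLib.J4Index.v15 j4Ctx = wPt (orbWord.getD 14 []) := pre15

theorem pre16 : CfsgLib.J4Index.v16 j4Ctx = wPt (orbWord.getD 15 []) :=
  (step_pt [5, 37, 63, 84, 106, 110, 118] pre5 (by decide +kernel)).trans (congrArg wPt (eq_of_beq (by decide +kernel)))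

theorem eq16 : CfsgLib.J4Index.v16 j4Ctx = wPt (orbWord.getD 15 []) := pre16

theorem pre17 : CfsgLib.J4Index.v17 j4Ctx = wPt (orbWord.getD 16 []) :=
  (step_pt [17] pre8 (by decide +kernel)).trans (congrArg wPt (eq_of_beq (by decide +kernel)))

theorem eq17 : CfsgLib.J4Index.v17 j4Ctx = wPt (orbWord.getD 16 []) := pre17

theorem pre18 : CfsgLib.J4Index.v18 j4Ctx = wPt (orbWord.getD 17 []) :=
  (step_pt [17] pre2 (by decide +kernel)).trans (congrArg wPt (eq_of_beq (by decide +kernel)))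

theorem eq18 : CfsgLib.J4Index.v18 j4Ctx = wPt (orbWord.getD 17 []) := pre18

theorem pre19 : CfsgLib.J4Index.v19 j4Ctx = wPt (orbWord.getD 18 []) :=
  (step_pt [23, 46, 56, 83, 103, 124] pre4 (by decide +kernel)).trans (congrArg wPt (eq_of_beq (by decide +kernel)))

theorem eq19 : CfsgLib.J4Index.v19 j4Ctx = wPt (orbWord.getD 18 []) := pre19

theorem pre20 : CfsgLib.J4Index.v20 j4Ctx = wPt (orbWord.getD 19 []) :=
  (step_pt [9, 28] pre3 (by decide +kernel)).trans (congrArg wPt (eq_of_beq (by decide +kernel)))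

theorem eq20 : CfsgLib.J4Index.v20 j4Ctx = wPt (orbWord.getD 19 []) := pre20

theorem vertex_pts : ∀ v ∈ CfsgLib.J4Index.vlist j4Ctx, ∃ j < 20, v = wPt (orbWord.getD j []) := by
  intro v hv
  simp only [CfsgLib.J4Index.vlist, List.mem_cons, List.not_mem_nil, or_false] at hv
  rcases hv with rfl | rfl | rfl | rfl | rfl | rfl | rfl | rfl | rfl | rfl | rfl | rfl | rfl | rfl | rfl | rfl | rfl | rfl | rfl | rfl
  · exact ⟨0, by norm_num, eq0⟩
  · exact ⟨1, by norm_num, eq1⟩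
  · exact ⟨2, by norm_num, eq2⟩
  · exact ⟨3, by norm_num, eq3⟩
  · exact ⟨4, by norm_num, eq4⟩
  · exact ⟨5, by norm_num, eq5⟩
  · exact ⟨6, by norm_num, eq6⟩
  · exact ⟨7, by norm_num, eq7⟩
  · exact ⟨8, by norm_num, eq8⟩
  · exact ⟨9, by norm_num, eq9⟩
  · exact ⟨10, by norm_num, eq10⟩
  · exact ⟨11, by norm_num, eq12⟩
  · exact ⟨12, by norm_num, eq13⟩
  · exact ⟨13, by norm_num, eq14⟩
  · exact ⟨14, by norm_num, eq15⟩
  · exact ⟨15, by norm_num, eq16⟩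
  · exact ⟨16, by norm_num, eq17⟩
  · exact ⟨17, by norm_num, eq18⟩
  · exact ⟨18, by norm_num, eq19⟩
  · exact ⟨19, by norm_num, eq20⟩

theorem orbit_bounds :
    (CfsgLib.J4Index.orbSet j4Ctx (CfsgLib.J4Index.v0 j4Ctx)).ncard ≤ orbSize.getD 0 0 ∧
    (CfsgLib.J4Index.orbSet j4Ctx (CfsgLib.J4Index.v1 j4Ctx)).ncard ≤ orbSize.getD 1 0 ∧
    (CfsgLib.J4Index.orbSet j4Ctx (CfsgLib.J4Index.v2 j4Ctx)).ncard ≤ orbSize.getD 2 0 ∧
    (CfsgLib.J4Index.orbSet j4Ctx (CfsgLib.J4Index.v3 j4Ctx)).ncard ≤ orbSize.getD 3 0 ∧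
    (CfsgLib.J4Index.orbSet j4Ctx (CfsgLib.J4Index.v4 j4Ctx)).ncard ≤ orbSize.getD 4 0 ∧
    (CfsgLib.J4Index.orbSet j4Ctx (CfsgLib.J4Index.v5 j4Ctx)).ncard ≤ orbSize.getD 5 0 ∧
    (CfsgLib.J4Index.orbSet j4Ctx (CfsgLib.J4Index.v6 j4Ctx)).ncard ≤ orbSize.getD 6 0 ∧
    (CfsgLib.J4Index.orbSet j4Ctx (CfsgLib.J4Index.v7 j4Ctx)).ncard ≤ orbSize.getD 7 0 ∧
    (CfsgLib.J4Index.orbSet j4Ctx (CfsgLib.J4Index.v8 j4Ctx)).ncard ≤ orbSize.getD 8 0 ∧
    (CfsgLib.J4Index.orbSet j4Ctx (CfsgLib.J4Index.v9 j4Ctx)).ncard ≤ orbSize.getD 9 0 ∧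
    (CfsgLib.J4Index.orbSet j4Ctx (CfsgLib.J4Index.v10 j4Ctx)).ncard ≤ orbSize.getD 10 0 ∧
    (CfsgLib.J4Index.orbSet j4Ctx (CfsgLib.J4Index.v12 j4Ctx)).ncard ≤ orbSize.getD 11 0 ∧
    (CfsgLib.J4Index.orbSet j4Ctx (CfsgLib.J4Index.v13 j4Ctx)).ncard ≤ orbSize.getD 12 0 ∧
    (CfsgLib.J4Index.orbSet j4Ctx (CfsgLib.J4Index.v14 j4Ctx)).ncard ≤ orbSize.getD 13 0 ∧
    (CfsgLib.J4Index.orbSet j4Ctx (CfsgLib.J4Index.v15 j4Ctx)).ncard ≤ orbSize.getD 14 0 ∧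
    (CfsgLib.J4Index.orbSet j4Ctx (CfsgLib.J4Index.v16 j4Ctx)).ncard ≤ orbSize.getD 15 0 ∧
    (CfsgLib.J4Index.orbSet j4Ctx (CfsgLib.J4Index.v17 j4Ctx)).ncard ≤ orbSize.getD 16 0 ∧
    (CfsgLib.J4Index.orbSet j4Ctx (CfsgLib.J4Index.v18 j4Ctx)).ncard ≤ orbSize.getD 17 0 ∧
    (CfsgLib.J4Index.orbSet j4Ctx (CfsgLib.J4Index.v19 j4Ctx)).ncard ≤ orbSize.getD 18 0 ∧
    (CfsgLib.J4Index.orbSet j4Ctx (CfsgLib.J4Index.v20 j4Ctx)).ncard ≤ orbSize.getD 19 0 :=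
  ⟨(CfsgLib.J4Index.orbit0 j4Ctx).2,
    (CfsgLib.J4Index.orbit1 j4Ctx).2,
    (CfsgLib.J4Index.orbit2 j4Ctx).2,
    (CfsgLib.J4Index.orbit3 j4Ctx).2,
    (CfsgLib.J4Index.orbit4 j4Ctx).2,
    (CfsgLib.J4Index.orbit5 j4Ctx).2,
    (CfsgLib.J4Index.orbit6 j4Ctx).2,
    (CfsgLib.J4Index.orbit7 j4Ctx).2,
    (CfsgLib.J4Index.orbit8 j4Ctx).2,
    (CfsgLib.J4Index.orbit9 j4Ctx).2,
    (CfsgLib.J4Index.orbit10 j4Ctx).2,
    (CfsgLib.J4Index.orbit12 j4Ctx).2,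
    (CfsgLib.J4Index.orbit13 j4Ctx).2,
    (CfsgLib.J4Index.orbit14 j4Ctx).2,
    (CfsgLib.J4Index.orbit15 j4Ctx).2,
    (CfsgLib.J4Index.orbit16 j4Ctx).2,
    (CfsgLib.J4Index.orbit17 j4Ctx).2,
    (CfsgLib.J4Index.orbit18 j4Ctx).2,
    (CfsgLib.J4Index.orbit19 j4Ctx).2,
    (CfsgLib.J4Index.orbit20 j4Ctx).2⟩

theorem cover (x : Cfsg.Spor.J4) : ∃ j < 20, ∃ h ∈ Subgroup.closure {jBase 0, jBase 2},
    (x : Cfsg.Spor.J4 ⧸ kp) = ((h * ((orbWord.getD j []).map jBase).prod : Cfsg.Spor.J4) : Cfsg.Spor.J4 ⧸ kp) := by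
  obtain ⟨h, hh, v, hv, e⟩ := CfsgLib.J4Index.mem_union j4Ctx CfsgLib.J4Index.all_rows
    (CfsgLib.J4Index.v0_mem j4Ctx) (CfsgLib.J4Index.vlist_good j4Ctx) CfsgLib.J4Index.j4_gen x
  obtain ⟨j, hj, rfl⟩ := vertex_pts v hv
  refine ⟨j, hj, h, hh, ?_⟩
  have e' : (x : Cfsg.Spor.J4 ⧸ kp) = x • j4Ctx.p0 := by
    show _ = ((x * 1 : Cfsg.Spor.J4) : Cfsg.Spor.J4 ⧸ kp)
    rw [mul_one]
  rw [e', ← e]
  rfl

theorem orbit_ncard {j : ℕ} (hj : j < 20) :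
    (Set.range fun h : Subgroup.closure ({jBase 0, jBase 2} : Set Cfsg.Spor.J4) =>
      (((h : Cfsg.Spor.J4) * ((orbWord.getD j []).map jBase).prod : Cfsg.Spor.J4) : Cfsg.Spor.J4 ⧸ kp)).ncard ≤
      orbSize.getD j 0 := by
  have key : ∀ v n, v = wPt (orbWord.getD j []) → (CfsgLib.J4Index.orbSet j4Ctx v).ncard ≤ n →
      (Set.range fun h : Subgroup.closure ({jBase 0, jBase 2} : Set Cfsg.Spor.J4) =>
      (((h : Cfsg.Spor.J4) * ((orbWord.getD j []).map jBase).prod : Cfsg.Spor.J4) : Cfsg.Spor.J4 ⧸ kp)).ncard ≤ n := by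
    intro v n hv hn
    refine le_trans (le_of_eq (congrArg Set.ncard ?_)) hn
    subst hv
    ext q
    exact ⟨fun ⟨h, e⟩ => ⟨h.1, h.2, e⟩, fun ⟨h, hh, e⟩ => ⟨⟨h, hh⟩, e⟩⟩
  obtain ⟨c0, c1, c2, c3, c4, c5, c6, c7, c8, c9, c10, c11, c12, c13, c14, c15, c16, c17, c18, c19⟩ := orbit_bounds
  interval_cases j
  · refine key _ _ ?_ c0
    exact eq0
  · refine key _ _ ?_ c1
    exact eq1
  · refine key _ _ ?_ c2
    exact eq2
  · refine key _ _ ?_ c3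
    exact eq3
  · refine key _ _ ?_ c4
    exact eq4
  · refine key _ _ ?_ c5
    exact eq5
  · refine key _ _ ?_ c6
    exact eq6
  · refine key _ _ ?_ c7
    exact eq7
  · refine key _ _ ?_ c8
    exact eq8
  · refine key _ _ ?_ c9
    exact eq9
  · refine key _ _ ?_ c10
    exact eq10
  · refine key _ _ ?_ c11
    exact eq12
  · refine key _ _ ?_ c12
    exact eq13
  · refine key _ _ ?_ c13
    exact eq14
  · refine key _ _ ?_ c14
    exact eq15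
  · refine key _ _ ?_ c15
    exact eq16
  · refine key _ _ ?_ c16
    exact eq17
  · refine key _ _ ?_ c17
    exact eq18
  · refine key _ _ ?_ c18
    exact eq19
  · refine key _ _ ?_ c19
    exact eq20

end CfsgLib.J4Cent
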