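import Cfsg.Agent.Lib.J4Cent.Orbits
import Cfsg.Agent.Lib.J4Cent.Cover

/-!
# The order of the centraliser of the involution is at most 77 times its part in the stabiliser
-/

set_option autoImplicit false
set_option maxRecDepth 100000

namespace CfsgLib.J4Cent

open Cfsg.Spor CfsgLib.J4P Matrix Subgroup
open CfsgLib.J4Index (kp)

/-- No member but the unit fixes the vector. -/
noncomputable def injOk : ℕ → ℕ → ℕ → Bool
  | 0, base, v => Nat.beq base 0 || !(Nat.beq v vInj)
  | k + 1, base, v => injOk k base v && injOk k (base + 2 ^ k) (act v [6 + k])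

theorem inj_checks : injOk 11 0 vInj = true ∧ Nat.blt vInj (2 ^ 112) = true := by decide +kernel

theorem injOk_spec : ∀ (k : ℕ), k ≤ 11 → ∀ base v, v < 2 ^ 112 → injOk k base v = true →
    ∀ m < 2 ^ k, ∃ v', v' < 2 ^ 112 ∧ vz v' = vz v ᵥ* mat (el (bw k m)) ∧ (base + m ≠ 0 → v' ≠ vInj)
  | 0, _, base, v, hv, h, m, hm => by
    obtain rfl : m = 0 := by simpa using hm
    refine ⟨v, hv, by rw [bw, el_nil, mat_one, vecMul_one], fun h0 => ?_⟩
    have hv' : v.beq vInj = false := by simpa [injOk, show base ≠ 0 by simpa using h0] using h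
    intro e
    rw [e, Nat.beq_refl] at hv'
    exact Bool.noConfusion hv'
  | k + 1, hk, base, v, hv, h, m, hm => by
    simp only [injOk, Bool.and_eq_true] at h
    by_cases hb : m < 2 ^ k
    · obtain ⟨v', h1, h2, h3⟩ := injOk_spec k (by omega) base v hv h.1 m hb
      refine ⟨v', h1, ?_, h3⟩
      rw [bw, Nat.testBit_lt_two_pow hb, if_neg (by simp)]
      exact h2
    · have ok : okW [6 + k] = true := by simp [okW, Nat.blt_eq]; omega
      have hm2 : m - 2 ^ k < 2 ^ k := by rw [pow_succ] at hm; omega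
      obtain ⟨v', h1, h2, h3⟩ := injOk_spec k (by omega) (base + 2 ^ k) _ (act_lt _ ok v hv) h.2 _ hm2
      refine ⟨v', h1, ?_, ?_⟩
      · rw [h2, vz_act _ ok, vecMul_vecMul]
        refine congrArg (fun A => vz v ᵥ* A) ?_
        have hbit : ∀ j < k, (m - 2 ^ k).testBit j = m.testBit j := fun j hj => by
          conv_rhs => rw [show m = 2 ^ k + (m - 2 ^ k) by omega]
          rw [Nat.testBit_two_pow_add_gt hj]
        have eb : bw k m = bw k (m - 2 ^ k) := by
          have : ∀ j ≤ k, bw j m = bw j (m - 2 ^ k) := by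
            intro j hj
            induction j with
            | zero => rfl
            | succ j ih => rw [bw, bw, ih (by omega), hbit j (by omega)]
          exact this k le_rfl
        rw [← mat_mul, bw, if_pos (show m.testBit k = true by
          rw [show m = 2 ^ k + (m - 2 ^ k) by omega, Nat.testBit_two_pow_add_eq,
            Nat.testBit_lt_two_pow hm2]; rfl), el_append, (bw_commute (by omega) (by omega) m).eq, eb]
      · rw [show base + 2 ^ k + (m - 2 ^ k) = base + m by omega] at h3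
        exact h3

theorem eE_inj {a b : ℕ} (ha : a < 2048) (hb : b < 2048) (h : eE a = eE b) : a = b := by
  by_contra hne
  obtain ⟨hi, hv⟩ := inj_checks
  have hv' : vInj < 2 ^ 112 := Nat.le_of_ble_eq_true hv
  have hx : a ^^^ b ≠ 0 := fun e => hne (Nat.xor_eq_zero_iff.1 e)
  obtain ⟨v', h1, h2, h3⟩ := injOk_spec 11 le_rfl 0 vInj hv' hi (a ^^^ b) (Nat.xor_lt_two_pow (n := 11) ha hb)
  refine h3 (by rwa [Nat.zero_add]) (vz_inj h1 hv' ?_)
  rw [h2]
  change vz vInj ᵥ* mat (eE (a ^^^ b)) = _
  rw [← eE_xor, h, eE_xor, Nat.xor_self, eE_zero, mat_one, vecMul_one]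

theorem cls_ncard_eq : clsSet.ncard = 1771 := by
  rw [clsSet, Set.InjOn.ncard_image fun a ha b hb e => eE_inj ha.1 hb.1 e,
    show {m | m < 2048 ∧ classMask.testBit m = true} =
      (((List.range 2048).filter fun m => classMask.testBit m).toFinset : Set ℕ) by ext; simp,
    Set.ncard_coe_finset, List.toFinset_card_of_nodup (List.nodup_range.filter _)]
  exact mask_checks.2.2.1

theorem one_mem_cls : eE 1 ∈ clsSet := ⟨1, ⟨by norm_num, by decide +kernel⟩, rfl⟩

theorem cls_closed : ∀ k ∈ k4, ∀ s ∈ clsSet, k * s * k⁻¹ ∈ clsSet :=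
  fun _ hk s hs => ((k4_norm.2 hk) s).2 hs

theorem e_closed : ∀ k ∈ k4, ∀ s ∈ eSet, k * s * k⁻¹ ∈ eSet :=
  fun _ hk s hs => ((k4_norm.1 hk) s).2 hs

theorem z_eq : el [6] = eE 1 := (eE_pow 0 (by norm_num)).symm

theorem el_jBase {w : List ℕ} (hw : ∀ g ∈ w, g < 6) : el w = rho.rangeRestrict (w.map jBase).prod := by
  rw [el]
  congr 2
  exact List.map_congr_left fun g hg => by rw [jLet, if_pos (hw g hg)]

theorem third_checks : sameW [6] (defsX.getD 0 []) = true ∧ ((defsX.getD 0 []).all fun g => Nat.blt g 6) = true ∧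
    defsX.getD 0 [] = ((List.replicate 3 ([2, 0, 2, 0, 3, 0, 3, 0, 3, 0, 3, 4] ++ [2, 0, 2, 0, 2, 0, 2, 0, 3, 0])).flatten) := by
  decide +kernel

theorem map_kp : kp.map rho.rangeRestrict = k4 := by
  have h6 : el [6] = rho.rangeRestrict ((defsX.getD 0 []).map jBase).prod := by
    obtain ⟨h, hl, -⟩ := third_checks
    rw [el_eq h, el_jBase fun g hg => Nat.le_of_ble_eq_true (List.all_eq_true.1 hl g hg)]
  rw [k4, CfsgLib.J4Index.kp, MonoidHom.map_closure, MonoidHom.map_closure, CfsgLib.J4Index.kpGens]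
  refine congrArg Subgroup.closure ?_
  simp only [Set.image_insert_eq, Set.image_singleton]
  rw [h6, el_jBase (by simp), el_jBase (by simp), third_checks.2.2]
  have ex : rho.rangeRestrict (PresentedGroup.mk (coxRelators J4.edges ∪ {r | r ∈ J4.extra}) J4.x) =
      rho.rangeRestrict ([0].map jBase).prod := by
    congr 1
  have ey : rho.rangeRestrict (PresentedGroup.mk (coxRelators J4.edges ∪ {r | r ∈ J4.extra}) J4.y) =
      rho.rangeRestrict ([2].map jBase).prod := by
    congr 1
  rw [ex, ey]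
  congr 3

theorem card_k4 : Nat.card k4 = 501397585920 := by
  have e1 : (CfsgLib.J4G.kpG.map rho.rangeRestrict).map rho.range.subtype = CfsgLib.J4G.gK := by
    rw [Subgroup.map_map, MonoidHom.subtype_comp_rangeRestrict, CfsgLib.J4G.map_kpG]
  rw [← map_kp, show kp = CfsgLib.J4G.kpG from rfl,
    ← card_map_of_injective rho.range.subtype_injective, e1, CfsgLib.J4G.card_gK]

theorem g4_facts : Cfsg.IsJ4 G4 := by
  obtain ⟨e, -, hs⟩ := CfsgLib.J4G.of_index_le CfsgLib.J4Index.index_ne_zero CfsgLib.J4Index.index_le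
  have key : ∀ (H J : Subgroup CfsgLib.J4G.GL2), H = J → Nat.card J = 86775571046077562880 →
      IsSimpleGroup J → IsSimpleGroup H ∧ Nat.card H = 86775571046077562880 := by
    rintro H J rfl h1 h2
    exact ⟨h2, h1⟩
  exact key _ _ CfsgLib.J4G.rho_range e hs

instance : Finite G4 := inferInstance

theorem card_le : Nat.card (centralizer ({el [6]} : Set G4)) ≤
    77 * Nat.card ↥(k4 ⊓ centralizer {el [6]}) := by
  rw [z_eq]
  refine (card_centralizer_le e_closed one_mem_cls fun b ⟨m, hm⟩ => hm ▸ eE_comm 1 m).trans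
    (Nat.mul_le_mul_right _ ?_)
  haveI := CfsgLib.J4Index.cosets_finite
  let φ : Cfsg.Spor.J4 ⧸ kp → G4 ⧸ k4 := Quotient.map' rho.rangeRestrict fun a b h => by
    rw [QuotientGroup.leftRel_apply] at h ⊢
    rw [← map_kp, ← map_inv, ← map_mul]
    exact ⟨_, h, rfl⟩
  have hL : m4 = (closure ({jBase 0, jBase 2} : Set Cfsg.Spor.J4)).map rho.rangeRestrict := by
    rw [MonoidHom.map_closure, m4, Set.image_insert_eq, Set.image_singleton,
      el_jBase (w := [0]) (by simp), el_jBase (w := [2]) (by simp)]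
    simp
  have hw : ∀ j < 20, ∀ g ∈ orbWord.getD j [], g < 6 := by
    have h : ((List.range 20).all fun j => (orbWord.getD j []).all fun g => Nat.blt g 6) = true := by
      decide +kernel
    exact fun j hj g hg => Nat.le_of_ble_eq_true
      (List.all_eq_true.1 (List.all_eq_true.1 h j (List.mem_range.2 hj)) g hg)
  have h := ncard_coPoints_le (z := eE 1) m4 m4_le e_closed cls_closed cls_conj one_mem_cls
    (fun j : Fin 20 => el (orbWord.getD j.val [])) (fun j => orbSize.getD j.val 0) (fun j => orbN j.val)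
    (fun x => by
      obtain ⟨a, rfl⟩ := rho.rangeRestrict_surjective x
      obtain ⟨j, hj, l, hl, e⟩ := cover a
      refine ⟨⟨j, hj⟩, rho.rangeRestrict l, hL ▸ ⟨l, hl, rfl⟩, ?_⟩
      show φ (a : Cfsg.Spor.J4 ⧸ kp) = _
      rw [e, el_jBase (hw j hj), ← map_mul]
      rfl)
    (fun j => by
      refine le_trans ?_ (orbit_ncard j.isLt)
      refine le_trans (Set.ncard_le_ncard (t := φ '' _) ?_ (Set.toFinite _))
        (Set.ncard_image_le (Set.toFinite _))
      rintro _ ⟨⟨l, hl⟩, rfl⟩
      rw [hL] at hl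
      obtain ⟨a, ha, rfl⟩ := hl
      refine ⟨_, ⟨⟨a, ha⟩, rfl⟩, ?_⟩
      show _ = (((rho.rangeRestrict a) * el (orbWord.getD j.val []) : G4) : G4 ⧸ k4)
      rw [el_jBase (hw j.val j.isLt), ← map_mul]
      rfl)
    (fun j => shared_orbit j.isLt)
  rw [cls_ncard_eq, orbit_total] at h
  omega

theorem card_inf : Nat.card ↥(k4 ⊓ centralizer {el [6]}) = 283115520 := by
  have h := card_inf_centralizer cls_closed cls_conj one_mem_cls
  rw [card_k4, cls_ncard_eq, ← z_eq] at h
  omega

end CfsgLib.J4Cent
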