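import Cfsg.Agent.Lib.J4Cent.Vec
import Cfsg.Agent.Lib.J4Cent.Cert

/-!
# The elementary abelian subgroup and a class of involutions in it
-/

set_option autoImplicit false
set_option maxRecDepth 100000

namespace CfsgLib.J4Cent

open Cfsg.Spor CfsgLib.J4P Matrix

/-- The word of a vector of coordinates. -/
def bw : ℕ → ℕ → List ℕ
  | 0, _ => []
  | k + 1, m => if m.testBit k then bw k m ++ [6 + k] else bw k m

/-- The linear map with given images of the unit vectors. -/
def linX (xs : List ℕ) : ℕ → ℕ → ℕ
  | 0, _ => 0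
  | k + 1, m => if m.testBit k then linX xs k m ^^^ xs.getD k 0 else linX xs k m

/-- The element of a vector of coordinates. -/
noncomputable def eE (m : ℕ) : G4 := el (bw 11 m)

/-- The generating letters of the subgroup of x and y. -/
def xyLet : List ℕ := [0, 2]

/-- Following the tree of the class. -/
def treeOk : List (ℕ × ℕ × ℕ) → ℕ → Option ℕ
  | [], s => some s
  | (m, p, g) :: l, s =>
    if s.testBit p && Nat.blt g 2 && Nat.beq (linX (conjE.getD g []) 11 p) m then
      treeOk l (s ||| 2 ^ m) else none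

theorem class_checks :
    ((List.range 11).all fun i => sameW [6 + i, 6 + i] [] &&
      (List.range i).all fun j => sameW [6 + i, 6 + j] [6 + j, 6 + i]) = true ∧
    ((List.range 2).all fun g => (List.range 11).all fun i =>
      sameW [xyLet.getD g 0, 6 + i] (bw 11 ((conjE.getD g []).getD i 0) ++ [xyLet.getD g 0])) = true ∧
    ((List.range 2).all fun g => (List.range 11).all fun i =>
      Nat.blt ((conjE.getD g []).getD i 0) 2048) = true := by
  decide +kernel

theorem mask_checks :
    treeOk classTree 2 = some classMask ∧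
    ((List.range 2).all fun g => (List.range 2048).all fun m =>
      !classMask.testBit m || classMask.testBit (linX (conjE.getD g []) 11 m)) = true ∧
    ((List.range 2048).filter fun m => classMask.testBit m).length = 1771 ∧
    classMask.testBit 0 = false ∧ Nat.blt classMask (2 ^ 2048) = true := by
  decide +kernel

theorem el_sq {i : ℕ} (hi : i < 11) : el [6 + i] * el [6 + i] = 1 := by
  have h := class_checks.1
  simp only [List.all_eq_true, List.mem_range, Bool.and_eq_true] at h
  rw [← el_append, ← el_nil]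
  exact el_eq (h i hi).1

theorem el_comm {i j : ℕ} (hi : i < 11) (hj : j < 11) : Commute (el [6 + i]) (el [6 + j]) := by
  have h := class_checks.1
  simp only [List.all_eq_true, List.mem_range, Bool.and_eq_true] at h
  have key : ∀ {a b : ℕ}, a < 11 → b < a → Commute (el [6 + a]) (el [6 + b]) := fun {a b} ha hb => by
    show _ * _ = _ * _
    rw [← el_append, ← el_append]
    exact el_eq ((h a ha).2 b hb)
  rcases lt_trichotomy i j with e | rfl | e
  exacts [(key hj e).symm, Commute.refl _, key hi e]

theorem bw_succ (k m : ℕ) :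
    el (bw (k + 1) m) = el (bw k m) * if m.testBit k then el [6 + k] else 1 := by
  rw [bw]
  split_ifs with h
  · rw [el_append]
  · rw [mul_one]

theorem bw_commute {k i : ℕ} (hk : k ≤ 11) (hi : i < 11) (m : ℕ) :
    Commute (el (bw k m)) (el [6 + i]) := by
  induction k with
  | zero => rw [bw, el_nil]; exact Commute.one_left _
  | succ k ih =>
    rw [bw_succ]
    refine (ih (by omega)).mul_left ?_
    split_ifs
    exacts [el_comm (by omega) hi, Commute.one_left _]

theorem bw_xor : ∀ {k : ℕ}, k ≤ 11 → ∀ a b, el (bw k a) * el (bw k b) = el (bw k (a ^^^ b))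
  | 0, _, a, b => by simp [bw, el_nil]
  | k + 1, hk, a, b => by
    rw [bw_succ, bw_succ, bw_succ, Nat.testBit_xor, ← bw_xor (k := k) (by omega) a b]
    set X := el (bw k a); set Y := el (bw k b); set c := el [6 + k]
    have hc : Commute Y c := bw_commute (by omega) (by omega) b
    have hc2 : c * c = 1 := el_sq (by omega)
    cases a.testBit k <;> cases b.testBit k <;>
      simp only [Bool.false_bne, Bool.true_bne, Bool.not_true, Bool.not_false, Bool.false_eq_true, if_false, if_true, mul_one]
    · rw [mul_assoc]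
    · rw [mul_assoc X c, ← hc.eq, mul_assoc]
    · rw [mul_assoc X c, ← mul_assoc c, ← hc.eq, mul_assoc Y c, hc2, mul_one]

theorem eE_xor (a b : ℕ) : eE a * eE b = eE (a ^^^ b) := bw_xor le_rfl a b

theorem bw_zero : ∀ k, bw k 0 = []
  | 0 => rfl
  | k + 1 => by rw [bw, Nat.zero_testBit, if_neg (by simp), bw_zero k]

theorem eE_zero : eE 0 = 1 := by rw [eE, bw_zero, el_nil]

theorem eE_inv (a : ℕ) : (eE a)⁻¹ = eE a :=
  inv_eq_of_mul_eq_one_right (by rw [eE_xor, Nat.xor_self, eE_zero])

theorem eE_comm (a b : ℕ) : Commute (eE a) (eE b) := by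
  show _ * _ = _ * _
  rw [eE_xor, eE_xor, Nat.xor_comm]

theorem eE_pow (i : ℕ) (hi : i < 11) : eE (2 ^ i) = el [6 + i] := by
  have h : ∀ k ≤ 11, el (bw k (2 ^ i)) = if i < k then el [6 + i] else 1 := by
    intro k hk
    induction k with
    | zero => simp [bw, el_nil]
    | succ k ih =>
      rw [bw_succ, ih (by omega), Nat.testBit_two_pow]
      rcases lt_trichotomy i k with e | rfl | e
      · simp [e, Nat.ne_of_lt e, show i < k + 1 by omega]
      · simp
      · simp [show ¬ i < k by omega, show ¬ i < k + 1 by omega, show i ≠ k by omega]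
  rw [eE, h 11 le_rfl, if_pos hi]

theorem eE_conj {g : ℕ} (hg : g < 2) (m : ℕ) :
    el [xyLet.getD g 0] * eE m * (el [xyLet.getD g 0])⁻¹ = eE (linX (conjE.getD g []) 11 m) := by
  have h := class_checks.2.1
  simp only [List.all_eq_true, List.mem_range] at h
  have key : ∀ k ≤ 11, el [xyLet.getD g 0] * el (bw k m) * (el [xyLet.getD g 0])⁻¹ =
      eE (linX (conjE.getD g []) k m) := by
    intro k hk
    induction k with
    | zero => rw [bw, el_nil, mul_one, mul_inv_cancel, linX, eE_zero]
    | succ k ih =>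
      rw [bw, linX]
      split_ifs with hb
      · have e : el [xyLet.getD g 0] * el [6 + k] =
            eE ((conjE.getD g []).getD k 0) * el [xyLet.getD g 0] := by
          rw [eE, ← el_append, ← el_append]
          exact el_eq (h g hg k (by omega))
        rw [← eE_xor, ← ih (by omega), el_append]
        generalize el [xyLet.getD g 0] = G at e ⊢
        generalize el (bw k m) = X at *
        generalize eE ((conjE.getD g []).getD k 0) = Z at e ⊢
        generalize el [6 + k] = c at e ⊢
        calc G * (X * c) * G⁻¹ = G * X * G⁻¹ * (G * c) * G⁻¹ := by group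
          _ = _ := by rw [e]; group
      · exact ih (by omega)
  exact key 11 le_rfl

/-- The set of the elements of the subgroup. -/
def eSet : Set G4 := Set.range eE

/-- The class. -/
def clsSet : Set G4 := eE '' {m | m < 2048 ∧ classMask.testBit m = true}

/-- The elements normalising a set. -/
def setNorm (T : Set G4) : Subgroup G4 where
  carrier := {g | ∀ s, g * s * g⁻¹ ∈ T ↔ s ∈ T}
  one_mem' := fun s => by simp
  mul_mem' {a b} ha hb s := by
    rw [show a * b * s * (a * b)⁻¹ = a * (b * s * b⁻¹) * a⁻¹ by group]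
    exact (ha _).trans (hb s)
  inv_mem' {a} ha s := by
    rw [← ha (a⁻¹ * s * a⁻¹⁻¹), show a * (a⁻¹ * s * a⁻¹⁻¹) * a⁻¹ = s by group]

theorem mem_setNorm {T : Set G4} [Finite G4] {g : G4} (h : ∀ s ∈ T, g * s * g⁻¹ ∈ T) :
    g ∈ setNorm T := by
  have e : (fun s => g * s * g⁻¹) '' T = T :=
    Set.eq_of_subset_of_ncard_le (by rintro _ ⟨s, hs, rfl⟩; exact h s hs)
      (by rw [Set.ncard_image_of_injective _ (fun a b hab => by simpa using hab)]) (Set.toFinite _)
  intro s
  refine ⟨fun hs => ?_, h s⟩
  rw [← e] at hs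
  obtain ⟨t, ht, hts⟩ := hs
  have : t = s := by simpa using hts
  exact this ▸ ht

instance : Finite (Matrix (Fin 112) (Fin 112) (ZMod 2))ˣ := inferInstance

/-- The generators x, y and the central element of the class. -/
def kLet : List ℕ := [0, 2, 6]

/-- The subgroup of x, y and the third element. -/
noncomputable def k4 : Subgroup G4 := Subgroup.closure {el [0], el [2], el [6]}

/-- The subgroup of x and y. -/
noncomputable def m4 : Subgroup G4 := Subgroup.closure {el [0], el [2]}

theorem m4_le : m4 ≤ k4 := Subgroup.closure_mono (by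
  intro g hg
  rcases hg with rfl | rfl
  exacts [Or.inl rfl, Or.inr (Or.inl rfl)])

theorem lin_lt {xs : List ℕ} (hxs : ∀ i < 11, xs.getD i 0 < 2048) : ∀ k ≤ 11, ∀ m, linX xs k m < 2048
  | 0, _, m => by simp [linX]
  | k + 1, hk, m => by
    rw [linX]
    split_ifs
    exacts [Nat.xor_lt_two_pow (n := 11) (lin_lt hxs k (by omega) m) (hxs k (by omega)),
      lin_lt hxs k (by omega) m]

theorem k4_norm : k4 ≤ setNorm eSet ∧ k4 ≤ setNorm clsSet := by
  have hcls : ∀ g < 2, ∀ s ∈ clsSet, el [xyLet.getD g 0] * s * (el [xyLet.getD g 0])⁻¹ ∈ clsSet := by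
    rintro g hg _ ⟨m, ⟨hm, hm'⟩, rfl⟩
    have hl := class_checks.2.2
    have hM := mask_checks.2.1
    simp only [List.all_eq_true, List.mem_range, Bool.or_eq_true, Bool.not_eq_true'] at hl hM
    refine ⟨_, ⟨lin_lt (fun i hi => Nat.le_of_ble_eq_true (hl g hg i hi)) 11 le_rfl m, ?_⟩,
      (eE_conj hg m).symm⟩
    exact (hM g hg m hm).resolve_left (by rw [hm']; simp)
  have hz : el [6] = eE 1 := (eE_pow 0 (by norm_num)).symm
  constructor <;> rw [k4, Subgroup.closure_le] <;> rintro g (rfl | rfl | rfl)
  · exact mem_setNorm (by rintro _ ⟨m, rfl⟩; exact ⟨_, (eE_conj (g := 0) (by norm_num) m).symm⟩)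
  · exact mem_setNorm (by rintro _ ⟨m, rfl⟩; exact ⟨_, (eE_conj (g := 1) (by norm_num) m).symm⟩)
  · rw [hz]
    exact mem_setNorm (by
      rintro _ ⟨m, rfl⟩
      exact ⟨m, by rw [(eE_comm 1 m).eq, mul_inv_cancel_right]⟩)
  · exact mem_setNorm (hcls 0 (by norm_num))
  · exact mem_setNorm (hcls 1 (by norm_num))
  · rw [hz]
    exact mem_setNorm (by
      rintro _ ⟨m, hm, rfl⟩
      exact ⟨m, hm, by rw [(eE_comm 1 m).eq, mul_inv_cancel_right]⟩)

theorem cls_conj : ∀ s ∈ clsSet, ∃ k ∈ k4, s = k * eE 1 * k⁻¹ := by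
  have key : ∀ (l : List (ℕ × ℕ × ℕ)) (s r : ℕ), treeOk l s = some r →
      (∀ m, s.testBit m = true → ∃ k ∈ k4, eE m = k * eE 1 * k⁻¹) →
      ∀ m, r.testBit m = true → ∃ k ∈ k4, eE m = k * eE 1 * k⁻¹ := by
    intro l
    induction l with
    | nil => intro s r h hs; simp only [treeOk, Option.some.injEq] at h; exact h ▸ hs
    | cons e l ih =>
      obtain ⟨m, p, g⟩ := e
      intro s r h hs
      rw [treeOk] at h
      split_ifs at h with hc
      simp only [Bool.and_eq_true, Nat.beq_eq] at hc
      obtain ⟨⟨hp, hg⟩, hm⟩ := hc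
      have hg2 : g < 2 := Nat.le_of_ble_eq_true hg
      refine ih _ r h fun a ha => ?_
      rw [Nat.testBit_or, Bool.or_eq_true, Nat.testBit_two_pow, decide_eq_true_eq] at ha
      rcases ha with ha | rfl
      · exact hs a ha
      · obtain ⟨k, hk, e⟩ := hs p hp
        refine ⟨el [xyLet.getD g 0] * k, mul_mem ?_ hk, ?_⟩
        · refine Subgroup.subset_closure ?_
          interval_cases g
          exacts [Or.inl rfl, Or.inr (Or.inl rfl)]
        · rw [← hm, ← eE_conj hg2, e]
          group
  rintro _ ⟨m, ⟨-, hm⟩, rfl⟩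
  refine key _ _ _ mask_checks.1 (fun a ha => ?_) m hm
  rw [show (2 : ℕ) = 2 ^ 1 from rfl, Nat.testBit_two_pow, decide_eq_true_eq] at ha
  subst ha
  exact ⟨1, one_mem _, by simp⟩

end CfsgLib.J4Cent
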