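import Cfsg.Agent.Lib.PGroup.Extraspecial
import Mathlib.Tactic.Group

/-!
# A criterion for an extraspecial two-group
-/

set_option autoImplicit false

namespace CfsgLib.J4Cent

open Subgroup
open scoped commutatorElement

variable {G : Type*} [Group G]

/-- Generators commuting modulo a central involution, with a dual family. -/
structure ExtraData (z : G) (n : ℕ) (q d : ℕ → G) : Prop where
  sq : z * z = 1
  ne : z ≠ 1
  central : ∀ i < n, Commute z (q i)
  square : ∀ i < n, q i * q i = 1 ∨ q i * q i = z
  comm : ∀ i < n, ∀ j < n, q i * q j = q j * q i ∨ q i * q j = q j * q i * z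
  dual_mem : ∀ k < n, d k ∈ closure (insert z (q '' {i | i < n}))
  dual : ∀ k < n, ∀ i < n, Commute (d k) (q i) ↔ i ≠ k

/-- The group generated by the involution and the first generators. -/
def stage (z : G) (q : ℕ → G) (m : ℕ) : Subgroup G := closure (insert z (q '' {i | i < m}))

variable {z : G} {n : ℕ} {q d : ℕ → G}

theorem z_mem_stage (m : ℕ) : z ∈ stage z q m := subset_closure (Set.mem_insert _ _)

theorem q_mem_stage {i m : ℕ} (h : i < m) : q i ∈ stage z q m :=
  subset_closure (Set.mem_insert_of_mem _ ⟨i, h, rfl⟩)

theorem stage_mono {m k : ℕ} (h : m ≤ k) : stage z q m ≤ stage z q k := by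
  refine closure_mono (Set.insert_subset_insert ?_)
  rintro _ ⟨i, hi, rfl⟩
  exact ⟨i, lt_of_lt_of_le hi h, rfl⟩

theorem stage_zero : stage z q 0 = zpowers z := by
  rw [stage, zpowers_eq_closure]
  simp

variable (D : ExtraData z n q d)
include D

theorem commute_z {x : G} (hx : x ∈ stage z q n) : Commute z x := by
  induction hx using closure_induction with
  | mem g hg =>
    rcases hg with rfl | ⟨i, hi, rfl⟩
    exacts [Commute.refl _, D.central i hi]
  | one => exact Commute.one_right _
  | mul g g' _ _ e e' => exact e.mul_right e'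
  | inv g _ e => exact e.inv_right

theorem dual_commute {m : ℕ} (hm : m < n) {x : G} (hx : x ∈ stage z q m) : Commute (d m) x := by
  induction hx using closure_induction with
  | mem g hg =>
    rcases hg with rfl | ⟨i, hi, rfl⟩
    · exact (commute_z D (D.dual_mem m hm)).symm
    · exact (D.dual m hm i (lt_trans hi hm)).2 (Nat.ne_of_lt hi)
  | one => exact Commute.one_right _
  | mul g g' _ _ e e' => exact e.mul_right e'
  | inv g _ e => exact e.inv_right

theorem mem_stage_succ {m : ℕ} (hm : m < n) {x : G} (hx : x ∈ stage z q (m + 1)) :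
    x ∈ stage z q m ∨ (q m)⁻¹ * x ∈ stage z q m := by
  have hq2 : q m * q m ∈ stage z q m := by
    rcases D.square m hm with e | e <;> rw [e]
    exacts [one_mem _, z_mem_stage m]
  have hn : ∀ h ∈ stage z q m, (q m)⁻¹ * h * q m ∈ stage z q m := by
    intro h hh
    induction hh using closure_induction with
    | mem g hg =>
      rcases hg with rfl | ⟨i, hi, rfl⟩
      · rw [mul_assoc, (D.central m hm).eq, ← mul_assoc, inv_mul_cancel, one_mul]
        exact z_mem_stage m
      · rcases D.comm i (lt_trans hi hm) m hm with e | e
        · rw [mul_assoc, e, inv_mul_cancel_left]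
          exact q_mem_stage hi
        · rw [mul_assoc, e, mul_assoc, inv_mul_cancel_left]
          exact mul_mem (q_mem_stage hi) (z_mem_stage m)
    | one => simp
    | mul g g' _ _ e e' =>
      have := mul_mem e e'
      convert this using 1; group
    | inv g _ e =>
      have := inv_mem e
      convert this using 1; group
  induction hx using closure_induction with
  | mem g hg =>
    rcases hg with rfl | ⟨i, hi, rfl⟩
    · exact Or.inl (z_mem_stage m)
    · rcases Nat.lt_succ_iff_lt_or_eq.1 hi with h | rfl
      · exact Or.inl (q_mem_stage h)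
      · exact Or.inr (by simp)
  | one => exact Or.inl (one_mem _)
  | mul g g' _ _ e e' =>
    rcases e with e | e <;> rcases e' with e' | e'
    · exact Or.inl (mul_mem e e')
    · refine Or.inr ?_
      have := mul_mem (hn g e) e'
      convert this using 1; group
    · refine Or.inr ?_
      have := mul_mem e e'
      convert this using 1; group
    · refine Or.inl ?_
      have := mul_mem hq2 (mul_mem (hn _ e) e')
      convert this using 1; group
  | inv g _ e =>
    rcases e with e | e
    · exact Or.inl (inv_mem e)
    · refine Or.inr ?_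
      have := mul_mem (inv_mem hq2) (inv_mem ?_ : ((q m * ((q m)⁻¹ * g) * (q m)⁻¹))⁻¹ ∈ stage z q m)
      · convert this using 1; group
      · have := mul_mem (mul_mem hq2 (hn _ e)) (inv_mem hq2)
        convert this using 1; group

theorem card_stage [Finite G] : ∀ m ≤ n, Nat.card (stage z q m) = 2 ^ (m + 1) := by
  intro m
  induction m with
  | zero =>
    intro _
    rw [stage_zero, Nat.card_zpowers, zero_add, pow_one]
    haveI : Fact (Nat.Prime 2) := ⟨Nat.prime_two⟩
    exact orderOf_eq_prime (by rw [pow_two, D.sq]) D.ne
  | succ m ih =>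
    intro hm
    have hm' : m < n := hm
    have hq : q m ∉ stage z q m := fun h => ((D.dual m hm' m hm').1 (dual_commute D hm' h)) rfl
    have key : (stage z q (m + 1) : Set G) =
        (stage z q m : Set G) ∪ (fun x => q m * x) '' (stage z q m : Set G) := by
      ext x
      constructor
      · intro hx
        rcases mem_stage_succ D hm' hx with h | h
        exacts [Or.inl h, Or.inr ⟨_, h, by group⟩]
      · rintro (h | ⟨y, hy, rfl⟩)
        · exact stage_mono (Nat.le_succ m) h
        · exact mul_mem (q_mem_stage (Nat.lt_succ_self m)) (stage_mono (Nat.le_succ m) hy)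
    have hd : Disjoint (stage z q m : Set G) ((fun x => q m * x) '' (stage z q m : Set G)) := by
      rw [Set.disjoint_left]
      rintro _ hx ⟨y, hy, rfl⟩
      exact hq ((mul_mem_cancel_right hy).1 hx)
    rw [← SetLike.coe_sort_coe, Nat.card_coe_set_eq, key, Set.ncard_union_eq hd,
      Set.ncard_image_of_injective _ (mul_right_injective _), ← Nat.card_coe_set_eq,
      SetLike.coe_sort_coe, ih (le_of_lt hm'), pow_succ _ (m + 1)]
    ring

theorem central_mem {x : G} (hx : x ∈ stage z q n) (hc : ∀ y ∈ stage z q n, Commute x y) :
    x ∈ zpowers z := by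
  suffices h : ∀ k ≤ n, x ∈ stage z q k → x ∈ zpowers z from h n le_rfl hx
  intro k
  induction k with
  | zero => intro _ h; rwa [stage_zero] at h
  | succ k ih =>
    intro hk h
    have hk' : k < n := hk
    rcases mem_stage_succ D hk' h with h' | h'
    · exact ih (le_of_lt hk') h'
    · refine absurd ?_ (fun e => (D.dual k hk' k hk').1 e rfl)
      have e1 := dual_commute D hk' h'
      have e2 := (hc _ (D.dual_mem k hk')).symm
      have := e2.mul_right e1.inv_right
      simpa using this

theorem extraspecial [Finite G] (hn : 0 < n) : Cfsg.IsExtraspecial 2 (stage z q n) := by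
  haveI : Fact (Nat.Prime 2) := ⟨Nat.prime_two⟩
  let zz : stage z q n := ⟨z, z_mem_stage n⟩
  have hcen : center (stage z q n) = zpowers zz := by
    refine le_antisymm (fun x hx => ?_) ?_
    · have h := central_mem D x.2 fun y hy => congrArg Subtype.val (mem_center_iff.1 hx ⟨y, hy⟩).symm
      obtain ⟨k, hk⟩ := mem_zpowers_iff.1 h
      exact mem_zpowers_iff.2 ⟨k, Subtype.ext (by simpa [zz] using hk)⟩
    · rw [zpowers_le, mem_center_iff]
      exact fun y => Subtype.ext (commute_z D y.2).symm
  have hsq : ∀ a : stage z q n, a * a ∈ center (stage z q n) ∧ ∀ b, ⁅a, b⁆ ∈ center (stage z q n) := by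
    set Z := center (stage z q n)
    have hz : zz ∈ Z := hcen ▸ mem_zpowers _
    let π := QuotientGroup.mk' Z
    have hgen : ∀ a, π a * π a = 1 ∧ ∀ b, Commute (π a) (π b) := by
      have hc : ∀ i, ∀ hi : i < n, ∀ b : stage z q n, Commute (π ⟨q i, q_mem_stage hi⟩) (π b) := by
        intro i hi b
        obtain ⟨b, hb⟩ := b
        induction hb using closure_induction with
        | mem g hg =>
          rcases hg with rfl | ⟨j, hj, rfl⟩
          · have : π ⟨g, z_mem_stage n⟩ = 1 := (QuotientGroup.eq_one_iff _).2 hz
            rw [this]; exact Commute.one_right _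
          · show π _ * π _ = π _ * π _
            rw [← map_mul, ← map_mul]
            rcases D.comm i hi j hj with e | e
            · exact congrArg π (Subtype.ext e)
            · rw [show (⟨q i, q_mem_stage hi⟩ * ⟨q j, q_mem_stage hj⟩ : stage z q n) =
                (⟨q j, q_mem_stage hj⟩ * ⟨q i, q_mem_stage hi⟩) * zz from Subtype.ext e,
                map_mul _ _ zz, show π zz = 1 from (QuotientGroup.eq_one_iff _).2 hz, mul_one]
        | one => exact (show π (1 : stage z q n) = 1 from map_one π) ▸ Commute.one_right _
        | mul g g' hg hg' e e' =>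
          have := e.mul_right e'
          rw [← map_mul] at this
          exact this
        | inv g hg e =>
          have := e.inv_right
          rw [← map_inv] at this
          exact this
      rintro ⟨a, ha⟩
      induction ha using closure_induction with
      | mem g hg =>
        rcases hg with rfl | ⟨j, hj, rfl⟩
        · have : π ⟨g, z_mem_stage n⟩ = 1 := (QuotientGroup.eq_one_iff _).2 hz
          rw [this]; exact ⟨one_mul 1, fun b => Commute.one_left _⟩
        · refine ⟨?_, hc j hj⟩
          rw [← map_mul]
          refine (QuotientGroup.eq_one_iff _).2 ?_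
          rcases D.square j hj with e | e
          · rw [show (⟨q j, q_mem_stage hj⟩ * ⟨q j, q_mem_stage hj⟩ : stage z q n) = 1 from Subtype.ext e]
            exact one_mem _
          · rw [show (⟨q j, q_mem_stage hj⟩ * ⟨q j, q_mem_stage hj⟩ : stage z q n) = zz from Subtype.ext e]
            exact hz
      | one =>
        rw [show (⟨1, one_mem _⟩ : stage z q n) = 1 from rfl, map_one]
        exact ⟨one_mul 1, fun b => Commute.one_left _⟩
      | mul g g' hg hg' e e' =>
        rw [show (⟨g * g', mul_mem hg hg'⟩ : stage z q n) = ⟨g, hg⟩ * ⟨g', hg'⟩ from rfl, map_mul]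
        refine ⟨?_, fun b => (e.2 b).mul_left (e'.2 b)⟩
        rw [(e'.2 ⟨g, hg⟩).mul_mul_mul_comm, e.1, e'.1, one_mul]
      | inv g hg e =>
        rw [show (⟨g⁻¹, inv_mem hg⟩ : stage z q n) = (⟨g, hg⟩)⁻¹ from rfl, map_inv]
        exact ⟨by rw [← mul_inv_rev, e.1, inv_one], fun b => (e.2 b).inv_left⟩
    intro a
    refine ⟨(QuotientGroup.eq_one_iff _).1 ((hgen a).1), fun b => (QuotientGroup.eq_one_iff _).1 ?_⟩
    show π ⁅a, b⁆ = 1
    rw [map_commutatorElement, commutatorElement_eq_one_iff_commute]
    exact (hgen a).2 b
  refine CfsgLib.PGroup.isExtraspecial_mk ?_ ?_ ?_ (fun a b => (hsq a).2 b)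
    (fun a => by rw [pow_two]; exact (hsq a).1)
  · exact IsPGroup.of_card (card_stage D n le_rfl)
  · rw [hcen, Nat.card_zpowers]
    exact orderOf_eq_prime (Subtype.ext (by simpa [zz, pow_two] using D.sq))
      (fun e => D.ne (congrArg Subtype.val e))
  · intro h
    exact (D.dual 0 hn 0 hn).1 (congrArg Subtype.val
      (h.is_comm.comm ⟨d 0, D.dual_mem 0 hn⟩ ⟨q 0, q_mem_stage hn⟩)) rfl

end CfsgLib.J4Cent
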