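import Cfsg.Agent.Lib.J4Cent.Class
import Cfsg.Agent.Lib.J4Cent.Coset

/-!
# Which members of the class centralise a conjugate of the abelian subgroup
-/

set_option autoImplicit false
set_option maxRecDepth 100000

namespace CfsgLib.J4Cent

open Cfsg.Spor CfsgLib.J4P Matrix

/-- The first vector. -/
def vZero : ℕ := 2 ^ 111

/-- The inverse word. -/
def invWord (w : List ℕ) : List ℕ :=
  w.reverse.map fun g => if Nat.blt g 6 then (if Nat.beq (g % 2) 0 then g + 1 else g - 1) else g

/-- A column of a matrix minus the identity. -/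
def colN (c : ℕ) : List ℕ → ℕ → ℕ
  | [], _ => 0
  | r :: rs, k => (if (r ^^^ 2 ^ k).testBit c then 1 else 0) + 2 * colN c rs (k + 1)

/-- The selected columns. -/
def selCols : List ℕ := fixSel.map fun p => colN p.2 (MB.getD (6 + p.1) []) 0

theorem fixed_checks :
    ((List.range 111).all fun k => Nat.beq (vmB selCols (fixMask.getD k 0)) (2 ^ k)) = true ∧
    (fixSel.all fun p => Nat.blt p.1 11 && Nat.blt p.2 112) = true := by
  decide +kernel

/-- The members surviving the test on a subcube. -/
noncomputable def cubeOk (keep : List ℕ) (u t : ℕ) : ℕ → ℕ → ℕ → Bool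
  | 0, base, v => !classMask.testBit base || keep.contains base ||
      !(Nat.beq (v ^^^ u) 0 || Nat.beq (v ^^^ u) t)
  | k + 1, base, v => cubeOk keep u t k base v &&
      cubeOk keep u t k (base + 2 ^ k) (act v [6 + k])

/-- The test of one orbit. -/
noncomputable def orbOk (g : List ℕ) (r : ℕ) (keep : List ℕ) : Bool :=
  okW g && okW (invWord g) && Nat.blt r (2 ^ 112) && keep.Nodup &&
    (List.range 11).all (fun i => Nat.beq (act r [6 + i] ^^^ r) 0 ||
      Nat.beq (act r [6 + i] ^^^ r) vZero) &&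
    cubeOk keep (act r (invWord g)) (act vZero (invWord g)) 11 0 (act r (invWord g))

theorem el_inv_pairs : ([[0, 1], [1, 0], [2, 3], [3, 2], [4, 5], [5, 4]].all fun w => sameW w []) = true ∧
    ((List.range 13).all fun i => sameW [6 + i, 6 + i] []) = true := by
  decide +kernel

theorem el_invWord : ∀ (w : List ℕ), okW w = true → el (invWord w) = (el w)⁻¹
  | [], _ => by simp [invWord, el_nil]
  | g :: w, hw => by
    simp only [okW, List.all_cons, Bool.and_eq_true] at hw
    have ih := el_invWord w hw.2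
    have hg : g < 19 := Nat.le_of_ble_eq_true hw.1
    have e : invWord (g :: w) = invWord w ++ invWord [g] := by simp [invWord]
    rw [e, el_append, ih, show g :: w = [g] ++ w from rfl, el_append, _root_.mul_inv_rev]
    congr 1
    obtain ⟨h1, h2⟩ := el_inv_pairs
    simp only [List.all_eq_true, List.mem_range] at h1 h2
    refine eq_inv_of_mul_eq_one_right ?_
    rw [← el_append, ← el_nil]
    refine el_eq ?_
    by_cases h6 : g < 6
    · refine h1 _ ?_
      interval_cases g <;> decide
    · have h' := h2 (g - 6) (by omega)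
      rw [show 6 + (g - 6) = g by omega] at h'
      have : invWord [g] = [g] := by
        simp [invWord, Nat.blt_eq, h6]
      rwa [this]

theorem colN_testBit (c : ℕ) : ∀ (rs : List ℕ) (k r : ℕ), r < rs.length →
    (colN c rs k).testBit r = (rs.getD r 0 ^^^ 2 ^ (k + r)).testBit c
  | [], _, r, h => by simp at h
  | a :: rs, k, 0, _ => by
    rw [colN, Nat.testBit_zero, List.getD_cons_zero, Nat.add_zero]
    cases (a ^^^ 2 ^ k).testBit c <;> simp
  | a :: rs, k, r + 1, h => by
    rw [colN, Nat.testBit_succ, List.getD_cons_succ,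
      show k + (r + 1) = k + 1 + r by omega, ← colN_testBit c rs (k + 1) r (by simpa using h)]
    congr 1
    split_ifs <;> omega

/-- Row vectors fixed by the abelian subgroup. -/
theorem fixed_space {w : Fin 112 → ZMod 2}
    (h : ∀ i < 11, w ᵥ* mat (el [6 + i]) = w) : w = 0 ∨ w = vz vZero := by
  let dot : ℕ → ZMod 2 := fun n => ∑ r : Fin 112, w r * bitZ (n.testBit r.val)
  have hxor : ∀ a b, dot (a ^^^ b) = dot a + dot b := fun a b => by
    simp only [dot, Nat.testBit_xor, bitZ_xor, mul_add, Finset.sum_add_distrib]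
  have hdot0 : dot 0 = 0 := by simp [dot, bitZ]
  obtain ⟨hm, hs⟩ := fixed_checks
  simp only [List.all_eq_true, List.mem_range, Bool.and_eq_true, Nat.beq_eq] at hm hs
  have hcol : ∀ n ∈ selCols, dot n = 0 := by
    intro n hn
    obtain ⟨⟨i, c⟩, hp, rfl⟩ := List.mem_map.1 hn
    obtain ⟨hi, hc⟩ := hs _ hp
    have hi' : i < 11 := Nat.le_of_ble_eq_true hi
    have hc' : c < 112 := Nat.le_of_ble_eq_true hc
    obtain ⟨-, hl, -, -⟩ := letter_checks
    simp only [List.all_eq_true, List.mem_range, Bool.and_eq_true, Nat.beq_eq] at hl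
    have hlen := (hl (6 + i) (by omega)).2
    have e := congrFun (h i hi') ⟨c, hc'⟩
    rw [mat_el (w := [6 + i]) (by simp [okW, Nat.blt_eq]; omega), List.map_singleton,
      List.prod_singleton] at e
    simp only [vecMul, dotProduct] at e
    have e2 : dot (colN c (MB.getD (6 + i) []) 0) =
        ∑ r : Fin 112, (w r * toMatB 112 (MB.getD (6 + i) []) r ⟨c, hc'⟩ +
          w r * (1 : Matrix (Fin 112) (Fin 112) (ZMod 2)) r ⟨c, hc'⟩) := by
      refine Finset.sum_congr rfl fun r _ => ?_
      rw [colN_testBit c _ 0 r.val (by rw [hlen]; exact r.isLt), Nat.zero_add, Nat.testBit_xor,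
        bitZ_xor, mul_add]
      simp only [toMatB, Matrix.of_apply]
      refine congrArg₂ (fun a b : ZMod 2 => a + b) rfl (congrArg (fun a : ZMod 2 => w r * a) ?_)
      rw [Nat.testBit_two_pow, Matrix.one_apply]
      by_cases hrc : r = ⟨c, hc'⟩
      · rw [if_pos hrc, decide_eq_true (by rw [hrc])]; rfl
      · rw [if_neg hrc, decide_eq_false (fun e => hrc (Fin.ext e))]; rfl
    rw [e2, Finset.sum_add_distrib, e, ← congrFun (vecMul_one w) ⟨c, hc'⟩]
    simp only [vecMul, dotProduct]
    exact CharTwo.add_self_eq_zero _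
  have hv : ∀ (l : List ℕ), (∀ n ∈ l, dot n = 0) → ∀ m, dot (vmB l m) = 0 := by
    intro l
    induction l with
    | nil => intro _ m; exact hdot0
    | cons a l ih =>
      intro hl m
      rw [vmB]
      split_ifs
      · rw [hxor, hl a List.mem_cons_self, ih (fun n hn => hl n (List.mem_cons_of_mem _ hn)), add_zero]
      · exact ih (fun n hn => hl n (List.mem_cons_of_mem _ hn)) _
  have hlow : ∀ r : Fin 112, r.val < 111 → w r = 0 := by
    intro r hr
    have e := hv _ hcol (fixMask.getD r.val 0)
    rw [hm r.val hr] at e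
    have e2 : ∑ s : Fin 112, w s * bitZ ((2 ^ r.val).testBit s.val) = w r := by
      rw [Finset.sum_eq_single r (fun s _ hs' => by
        rw [Nat.testBit_two_pow, decide_eq_false (fun e => hs' (Fin.ext e.symm))]; simp [bitZ]) (by simp)]
      simp [bitZ, Nat.testBit_two_pow]
    exact e2.symm.trans e
  have hvz : ∀ r : Fin 112, vz vZero r = if r.val < 111 then 0 else 1 := by
    intro r
    rw [vz, vZero, Nat.testBit_two_pow]
    have := r.isLt
    by_cases hr : r.val < 111
    · rw [if_pos hr, decide_eq_false (by omega)]; rfl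
    · rw [if_neg hr, decide_eq_true (by omega)]; rfl
  rcases (show w ⟨111, by norm_num⟩ = 0 ∨ w ⟨111, by norm_num⟩ = 1 by
    generalize w ⟨111, by norm_num⟩ = a; revert a; decide) with e | e
  · left
    funext r
    by_cases hr : r.val < 111
    · exact hlow r hr
    · rw [Fin.ext (show r.val = (⟨111, by norm_num⟩ : Fin 112).val from by have := r.isLt; simp; omega), e]
      rfl
  · right
    funext r
    rw [hvz]
    by_cases hr : r.val < 111
    · rw [if_pos hr, hlow r hr]
    · rw [if_neg hr, ← e, Fin.ext (show r.val = (⟨111, by norm_num⟩ : Fin 112).val from by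
        have := r.isLt; simp; omega)]

theorem cubeOk_spec {keep : List ℕ} {u t : ℕ} : ∀ (k : ℕ), k ≤ 11 → ∀ base v, v < 2 ^ 112 →
    cubeOk keep u t k base v = true → ∀ m < 2 ^ k, ∃ v', v' < 2 ^ 112 ∧
      vz v' = vz v ᵥ* mat (el (bw k m)) ∧
      (classMask.testBit (base + m) = true → base + m ∉ keep → v' ^^^ u ≠ 0 ∧ v' ^^^ u ≠ t)
  | 0, _, base, v, hv, h, m, hm => by
    obtain rfl : m = 0 := by simpa using hm
    refine ⟨v, hv, by rw [bw, el_nil, mat_one, vecMul_one], fun hb hk => ?_⟩
    simp only [cubeOk, Nat.add_zero, Bool.or_eq_true, Bool.not_eq_true', List.contains_iff_mem] at h hb hk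
    rcases h with (h | h) | h
    · rw [hb] at h; simp at h
    · exact absurd h hk
    · rw [Bool.or_eq_false_iff] at h
      exact ⟨fun e => by rw [e] at h; simp at h, fun e => by rw [e] at h; simp at h⟩
  | k + 1, hk, base, v, hv, h, m, hm => by
    simp only [cubeOk, Bool.and_eq_true] at h
    by_cases hb : m < 2 ^ k
    · obtain ⟨v', h1, h2, h3⟩ := cubeOk_spec k (by omega) base v hv h.1 m hb
      refine ⟨v', h1, ?_, h3⟩
      rw [bw, Nat.testBit_lt_two_pow hb, if_neg (by simp)]
      exact h2
    · have ok : okW [6 + k] = true := by simp [okW, Nat.blt_eq]; omega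
      have hm2 : m - 2 ^ k < 2 ^ k := by rw [pow_succ] at hm; omega
      obtain ⟨v', h1, h2, h3⟩ := cubeOk_spec k (by omega) (base + 2 ^ k) _ (act_lt _ ok v hv) h.2 _ hm2
      refine ⟨v', h1, ?_, ?_⟩
      · rw [h2, vz_act _ ok, vecMul_vecMul]
        refine congrArg (fun A => vz v ᵥ* A) ?_
        have eb : bw k m = bw k (m - 2 ^ k) := by
          have : ∀ j ≤ k, bw j m = bw j (m - 2 ^ k) := by
            intro j hj
            induction j with
            | zero => rfl
            | succ j ih =>
              have : (m - 2 ^ k).testBit j = m.testBit j := by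
                conv_rhs => rw [show m = 2 ^ k + (m - 2 ^ k) by omega]
                rw [Nat.testBit_two_pow_add_gt (by omega)]
              rw [bw, bw, ih (by omega), this]
          exact this k le_rfl
        rw [← mat_mul, bw, if_pos (show m.testBit k = true by
          rw [show m = 2 ^ k + (m - 2 ^ k) by omega, Nat.testBit_two_pow_add_eq,
            Nat.testBit_lt_two_pow hm2]; rfl), el_append, (bw_commute (by omega) (by omega) m).eq, eb]
      · rw [show base + 2 ^ k + (m - 2 ^ k) = base + m by omega] at h3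
        exact h3

/-- The bound from the test. -/
theorem shared_le {g : List ℕ} {r : ℕ} {keep : List ℕ} (h : orbOk g r keep = true) :
    (sharedSet clsSet eSet (el g)).ncard ≤ keep.length := by
  simp only [orbOk, Bool.and_eq_true, decide_eq_true_eq, List.all_eq_true, List.mem_range,
    Bool.or_eq_true, Nat.beq_eq] at h
  obtain ⟨⟨⟨⟨⟨hg, hh⟩, hr⟩, hnd⟩, hrow⟩, hcube⟩ := h
  have hr' : r < 2 ^ 112 := Nat.le_of_ble_eq_true hr
  have hv0 : vZero < 2 ^ 112 := Nat.pow_lt_pow_right (by norm_num) (by norm_num)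
  set u := act r (invWord g) with hu
  set t := act vZero (invWord g) with ht
  have hu' : u < 2 ^ 112 := act_lt _ hh r hr'
  have ht' : t < 2 ^ 112 := act_lt _ hh _ hv0
  refine le_trans (Set.ncard_le_ncard (t := eE '' {m | m ∈ keep}) ?_ ?_) ?_
  rotate_left
  · exact (List.finite_toSet keep).image _
  · refine (Set.ncard_image_le (List.finite_toSet keep)).trans (le_of_eq ?_)
    rw [show {m | m ∈ keep} = (keep.toFinset : Set ℕ) by ext; simp, Set.ncard_coe_finset,
      List.toFinset_card_of_nodup hnd]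
  rintro s ⟨⟨m, ⟨hm, hmb⟩, rfl⟩, hcomm⟩
  by_contra hout
  have hk : m ∉ keep := fun hk => hout ⟨m, hk, rfl⟩
  obtain ⟨v', hv', he, hne⟩ := cubeOk_spec 11 le_rfl 0 u hu' hcube m hm
  rw [Nat.zero_add] at hne
  obtain ⟨hne0, hnet⟩ := hne hmb hk
  have huG : vz u = vz r ᵥ* mat (el g)⁻¹ := by rw [hu, vz_act _ hh, el_invWord g hg]
  have htG : vz t = vz vZero ᵥ* mat (el g)⁻¹ := by rw [ht, vz_act _ hh, el_invWord g hg]
  change vz v' = vz u ᵥ* mat (eE m) at he
  set G := el g
  set S := eE m
  have hc : ∀ i < 11, S * (G * el [6 + i] * G⁻¹) = G * el [6 + i] * G⁻¹ * S :=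
    fun i hi => hcomm _ ⟨2 ^ i, eE_pow i hi⟩
  have hfix0 : ∀ i < 11, vz vZero ᵥ* mat (el [6 + i]) = vz vZero := by
    intro i hi
    have hc6 : ((List.range 11).all fun i => Nat.beq (act vZero [6 + i]) vZero) = true := by
      decide +kernel
    simp only [List.all_eq_true, List.mem_range, Nat.beq_eq] at hc6
    rw [← vz_act _ (by simp [okW, Nat.blt_eq]; omega), hc6 i hi]
  -- a vector fixed by the conjugate group is zero or the image of the first
  have hfix : ∀ x : Fin 112 → ZMod 2, (∀ i < 11, x ᵥ* mat (G * el [6 + i] * G⁻¹) = x) →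
      x = 0 ∨ x = vz t := by
    intro x hx
    have hw : ∀ i < 11, (x ᵥ* mat G) ᵥ* mat (el [6 + i]) = x ᵥ* mat G := by
      intro i hi
      have e := congrArg (fun y => y ᵥ* mat G) (hx i hi)
      simp only [vecMul_vecMul, ← mat_mul, inv_mul_cancel_right] at e
      rw [vecMul_vecMul, ← mat_mul]
      exact e
    have back : x = (x ᵥ* mat G) ᵥ* mat G⁻¹ := by
      rw [vecMul_vecMul, ← mat_mul, mul_inv_cancel, mat_one, vecMul_one]
    rcases fixed_space hw with e | e
    · left; rw [back, e, zero_vecMul]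
    · right; rw [back, e, htG]
  have htB : ∀ i < 11, vz t ᵥ* mat (G * el [6 + i] * G⁻¹) = vz t := by
    intro i hi
    rw [htG, vecMul_vecMul, ← mat_mul, show G⁻¹ * (G * el [6 + i] * G⁻¹) = el [6 + i] * G⁻¹ by group,
      mat_mul, ← vecMul_vecMul, hfix0 i hi]
  have htS : vz t ᵥ* mat S = vz t := by
    rcases hfix (vz t ᵥ* mat S) (fun i hi => by
      rw [vecMul_vecMul, ← mat_mul, hc i hi, mat_mul, ← vecMul_vecMul, htB i hi]) with e | e
    · exfalso
      have e' := congrArg (fun y => y ᵥ* mat S⁻¹) e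
      simp only [vecMul_vecMul, ← mat_mul, mul_inv_cancel, mat_one, vecMul_one, zero_vecMul] at e'
      have e'' := congrArg (fun y => y ᵥ* mat G) e'
      simp only [htG, vecMul_vecMul, ← mat_mul, inv_mul_cancel, mat_one, vecMul_one, zero_vecMul] at e''
      rw [← vz_zero] at e''
      exact absurd (vz_inj hv0 (by norm_num) e'') (by unfold vZero; positivity)
    · exact e
  have key : vz (v' ^^^ u) = 0 ∨ vz (v' ^^^ u) = vz t := by
    refine hfix _ fun i hi => ?_
    obtain ⟨δ, hδ, hrb⟩ : ∃ δ, (δ = 0 ∨ δ = vz vZero) ∧ vz r ᵥ* mat (el [6 + i]) = vz r + δ := by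
      have ok : okW [6 + i] = true := by simp [okW, Nat.blt_eq]; omega
      refine ⟨vz (act r [6 + i] ^^^ r), ?_, ?_⟩
      · rcases hrow i hi with e | e <;> rw [e]
        exacts [Or.inl vz_zero, Or.inr rfl]
      · rw [vz_xor, vz_act _ ok]
        funext j
        simp only [Pi.add_apply]
        generalize vz r j = a
        generalize (vz r ᵥ* mat (el [6 + i])) j = b
        revert a b
        decide
    have hδS : (δ ᵥ* mat G⁻¹) ᵥ* mat S = δ ᵥ* mat G⁻¹ := by
      rcases hδ with rfl | rfl
      · simp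
      · rw [← htG, htS]
    have huB : vz u ᵥ* mat (G * el [6 + i] * G⁻¹) = vz u + δ ᵥ* mat G⁻¹ := by
      rw [huG, vecMul_vecMul, ← mat_mul, show G⁻¹ * (G * el [6 + i] * G⁻¹) = el [6 + i] * G⁻¹ by group,
        mat_mul, ← vecMul_vecMul, hrb, add_vecMul]
    have hsB : (vz u ᵥ* mat S) ᵥ* mat (G * el [6 + i] * G⁻¹) = vz u ᵥ* mat S + δ ᵥ* mat G⁻¹ := by
      rw [vecMul_vecMul, ← mat_mul, hc i hi, mat_mul, ← vecMul_vecMul, huB, add_vecMul, hδS]
    rw [vz_xor, he, add_vecMul, hsB, huB]
    funext j
    simp only [Pi.add_apply]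
    generalize (vz u ᵥ* mat S) j = a
    generalize vz u j = b
    generalize (δ ᵥ* mat G⁻¹) j = c
    revert a b c
    decide
  have hx : v' ^^^ u < 2 ^ 112 := Nat.xor_lt_two_pow hv' hu'
  rcases key with e | e
  · exact hne0 (vz_inj hx (Nat.two_pow_pos _) (e.trans vz_zero.symm))
  · exact hnet (vz_inj hx ht' e)

end CfsgLib.J4Cent
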