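import Cfsg.Agent.Lib.J4P.Rep
import Cfsg.Agent.Lib.J4Cent.Data

/-!
# The tables of all letters
-/

set_option autoImplicit false
set_option maxRecDepth 100000

namespace CfsgLib.J4Cent

open CfsgLib.J4P

/-- Rows of all letters. -/
def MB : List (List ℕ) := matJ ++ matX

/-- Tables of all letters. -/
def TB : List (List ℕ) := tabJ ++ tabX

theorem letter_checks :
    (MB.length = 19 ∧ TB.length = 19 ∧ defsX.length = 13) ∧
    ((List.range 19).all fun g =>
      chkT (TB.getD g []) (MB.getD g []) && Nat.beq (MB.getD g []).length 112) = true ∧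
    ((List.range 19).all fun g => (MB.getD g []).all fun r => Nat.blt r (2 ^ 112)) = true ∧
    ((List.range 13).all fun i =>
      ((defsX.getD i []).all fun g => Nat.blt g 6) &&
        evalB 112 tabJ (defsX.getD i []) == MB.getD (6 + i) []) = true := by
  decide +kernel

end CfsgLib.J4Cent
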