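import Cfsg.Agent.Lib.J4Cent.Bound
import Cfsg.Agent.Lib.J4Cent.Action
import Cfsg.Agent.Lib.J4Cent.Assemble
import Cfsg.Agent.Lib.LargeExtra.SubExtra

/-!
# The centraliser of the involution and its structure
-/

set_option autoImplicit false
set_option maxRecDepth 100000

namespace CfsgLib.J4Cent

open Cfsg.Spor CfsgLib.J4P Matrix Subgroup

theorem k4_fixes {x : G4} (hx : x ∈ k4) : vz vZero ᵥ* mat x = vz vZero := by
  have h := orbit_tree_checks.2.2.2.2.2.2
  simp only [List.all_eq_true, Nat.beq_eq] at h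
  induction hx using Subgroup.closure_induction with
  | mem g hg =>
    rcases hg with rfl | rfl | rfl
    all_goals rw [← vz_act _ (by decide)]
    exacts [congrArg vz (h 0 (by simp)), congrArg vz (h 2 (by simp)), congrArg vz (h 6 (by simp))]
  | one => rw [mat_one, vecMul_one]
  | mul g g' _ _ e e' => rw [mat_mul, ← vecMul_vecMul, e, e']
  | inv g _ e =>
    conv_lhs => rw [← e, vecMul_vecMul, ← mat_mul, mul_inv_cancel, mat_one, vecMul_one]

theorem h4_le : h4 ≤ centralizer ({el [6]} : Set G4) := by
  rw [h4, closure_le]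
  rintro _ ⟨w, hw, rfl⟩
  have h := block_checks.2.2.2.2.2
  simp only [List.all_eq_true, Bool.and_eq_true] at h
  rw [SetLike.mem_coe, mem_centralizer_singleton_iff, ← el_append, ← el_append]
  exact el_eq (h w hw).2

theorem el_h4 {w : List ℕ} (hw : w ∈ hWords) : el w ∈ h4 := subset_closure ⟨w, hw, rfl⟩

theorem gen_h4 {k : ℕ} (hk : k < 4) : el [genH.getD k 0] ∈ h4 := by
  interval_cases k <;> exact el_h4 (by decide)

theorem orbit_reached : ∀ j < 77, ∃ c ∈ h4, vz vZero ᵥ* mat c⁻¹ = opt j := by
  obtain ⟨ht, -, -, -, -, h0, -⟩ := orbit_tree_checks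
  simp only [List.all_eq_true, List.mem_range, Bool.and_eq_true, Nat.beq_eq, List.contains_iff_mem] at ht
  intro j
  induction j using Nat.strong_induction_on with
  | _ j ih =>
    intro hj
    rcases j with _ | k
    · exact ⟨1, one_mem _, by rw [inv_one, mat_one, vecMul_one, opt, h0]⟩
    · obtain ⟨⟨hp, hg⟩, he⟩ := ht k (by omega)
      have hp' : (orbitTree.getD k (0, 0)).1 < k + 1 := Nat.le_of_ble_eq_true hp
      obtain ⟨c, hc, e⟩ := ih _ hp' (by omega)
      have hw : [(orbitTree.getD k (0, 0)).2] ∈ hWords := by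
        rw [hWords]
        simp only [List.mem_cons, List.not_mem_nil, or_false] at hg
        rcases hg with h | h | h | h <;> rw [h] <;> simp
      have hok : okW [(orbitTree.getD k (0, 0)).2] = true := by
        simp only [List.mem_cons, List.not_mem_nil, or_false] at hg
        rcases hg with h | h | h | h <;> rw [h] <;> decide
      refine ⟨(el [(orbitTree.getD k (0, 0)).2])⁻¹ * c, mul_mem (inv_mem (el_h4 hw)) hc, ?_⟩
      rw [_root_.mul_inv_rev, inv_inv, mat_mul, ← vecMul_vecMul, e, opt, ← vz_act _ hok, he, opt]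

theorem card_cent : Nat.card (centralizer ({el [6]} : Set G4)) = 21799895040 := by
  refine le_antisymm ?_ ?_
  · have := card_le
    rw [card_inf] at this
    omega
  · let C := centralizer ({el [6]} : Set G4)
    let f : C → (Fin 112 → ZMod 2) := fun c => vz vZero ᵥ* mat (c : G4)⁻¹
    let D : Subgroup G4 :=
      { carrier := {x | vz vZero ᵥ* mat x = vz vZero}
        one_mem' := by simp [mat_one]
        mul_mem' := fun {a b} ha hb => by
          show _ ᵥ* mat (a * b) = _
          rw [mat_mul, ← vecMul_vecMul, ha, hb]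
        inv_mem' := fun {a} ha => by
          show _ ᵥ* mat a⁻¹ = _
          conv_lhs => rw [← show vz vZero ᵥ* mat a = vz vZero from ha, vecMul_vecMul, ← mat_mul,
            mul_inv_cancel, mat_one, vecMul_one] }
    have hfib : ∀ a b : C, f a = f b ↔ a⁻¹ * b ∈ D.subgroupOf C := by
      intro a b
      rw [mem_subgroupOf]
      show _ ↔ vz vZero ᵥ* mat ((a : G4)⁻¹ * b) = _
      constructor
      · intro e
        have e' := congrArg (fun v => v ᵥ* mat (b : G4)) e
        simp only [f, vecMul_vecMul, ← mat_mul, inv_mul_cancel, mat_one, vecMul_one] at e'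
        exact e'
      · intro e
        have e' := congrArg (fun v => v ᵥ* mat (b : G4)⁻¹) e
        simp only [vecMul_vecMul, ← mat_mul, mul_assoc, mul_inv_cancel, mul_one] at e'
        exact e'
    have h1 : 77 ≤ (Set.range f).ncard := by
      have hsub : opt '' (↑(Finset.range 77) : Set ℕ) ⊆ Set.range f := by
        rintro _ ⟨j, hj, rfl⟩
        obtain ⟨c, hc, e⟩ := orbit_reached j (Finset.mem_range.1 (Finset.mem_coe.1 hj))
        exact ⟨⟨c, h4_le hc⟩, e⟩
      have := Set.ncard_le_ncard hsub (Set.toFinite _)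
      rwa [Set.InjOn.ncard_image fun a ha b hb e =>
          opt_inj (Finset.mem_range.1 (Finset.mem_coe.1 ha)) (Finset.mem_range.1 (Finset.mem_coe.1 hb)) e,
        Set.ncard_coe_finset, Finset.card_range] at this
    have h2 : 283115520 ≤ Nat.card (D.subgroupOf C) := by
      rw [← card_inf]
      exact Nat.card_le_card_of_injective
        (fun x => (⟨⟨x.1, x.2.2⟩, mem_subgroupOf.2 (k4_fixes x.2.1)⟩ : D.subgroupOf C))
        fun a b e => Subtype.ext (by simpa using e)
    have := Nat.mul_le_mul h1 h2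
    rw [← card_eq_of_fibres _ f hfib] at this
    exact this

theorem qEl_h4 {i : ℕ} (hi : i < 12) : qEl i ∈ h4 := by
  refine el_h4 ?_
  rw [hWords, List.mem_append]
  right
  have : qWord.length = 12 := by decide +kernel
  rw [List.getD_eq_getElem _ _ (this ▸ hi)]
  exact List.getElem_mem _

theorem z_h4 : el [6] ∈ h4 := by
  have hb : (qB.getD 6 []).getD 1 false = true := by decide +kernel
  have e := q_comm (i := 6) (j := 1) (by norm_num) (by norm_num)
  rw [hb, if_pos rfl] at e
  rw [← inv_mul_cancel_left (qEl 1 * qEl 6) (el [6]), ← e]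
  exact mul_mem (inv_mem (mul_mem (qEl_h4 (by norm_num)) (qEl_h4 (by norm_num))))
    (mul_mem (qEl_h4 (by norm_num)) (qEl_h4 (by norm_num)))

theorem q4_le : q4 ≤ h4 := by
  rw [q4, stage, closure_le]
  rintro _ (rfl | ⟨i, hi, rfl⟩)
  exacts [z_h4, qEl_h4 hi]

theorem el_w3 : el wThree ^ 3 = 1 ∧ el wThree ≠ 1 := by
  obtain ⟨h, hb⟩ := w_checks
  refine ⟨?_, ?_⟩
  · have e := el_eq h
    rw [el_append, el_append, el_nil] at e
    rw [pow_succ, pow_two]
    exact e
  · obtain ⟨b, hb', hne⟩ := List.any_eq_true.1 hb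
    rw [← el_nil]
    refine el_ne (v := 2 ^ b) (by decide +kernel) (by decide)
      (Nat.pow_lt_pow_right (by norm_num) (List.mem_range.1 hb')) ?_
    rw [beq_eq_false_iff_ne]
    intro e
    rw [e, Bool.not_eq_true'] at hne
    exact Bool.false_ne_true (hne.symm.trans (Nat.beq_refl (act (2 ^ b) [])))

theorem q4_normal : ∀ x ∈ h4, ∀ q ∈ q4, x * q * x⁻¹ ∈ q4 := by
  have hgen : ∀ k < 4, el [genH.getD k 0] ∈ setNorm (q4 : Set G4) := fun k hk => by
    rw [← inv_inv (el [genH.getD k 0])]
    exact inv_mem (mem_setNorm fun q hq => by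
      rw [inv_inv]
      exact q4_conj hk hq)
  have hw : ∀ w : List ℕ, (∀ g ∈ w, g ∈ genH) → el w ∈ setNorm (q4 : Set G4) := by
    intro w
    induction w with
    | nil => intro _; rw [el_nil]; exact one_mem _
    | cons g w ih =>
      intro h
      rw [show g :: w = [g] ++ w from rfl, el_append]
      refine mul_mem ?_ (ih fun a ha => h a (List.mem_cons_of_mem _ ha))
      have hg := h g List.mem_cons_self
      obtain ⟨k, hk, rfl⟩ := List.getElem_of_mem hg
      rw [← List.getD_eq_getElem _ 0 hk]
      exact hgen k hk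
  have hle : h4 ≤ setNorm (q4 : Set G4) := by
    rw [h4, closure_le]
    rintro _ ⟨w, hw', rfl⟩
    simp only [hWords, Set.mem_setOf_eq, List.mem_append] at hw'
    rcases hw' with h | h
    · refine hw w ?_
      have hc : ([[17], [18], [2], [9], wThree].all fun w => w.all fun g => genH.contains g) = true := by
        decide +kernel
      intro g hg
      exact List.contains_iff_mem.1 (List.all_eq_true.1 (List.all_eq_true.1 hc w h) g hg)
    · obtain ⟨i, hi, rfl⟩ := List.getElem_of_mem h
      have h12 : qWord.length = 12 := by decide +kernel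
      have hm : el qWord[i] ∈ q4 := by
        rw [← List.getD_eq_getElem _ [] hi]
        exact q_mem_stage (q := qEl) (h12 ▸ hi)
      exact mem_setNorm fun q hq => mul_mem (mul_mem hm hq) (inv_mem hm)
  exact fun x hx q hq => ((hle hx) q).2 hq

theorem q4_extraspecial : Cfsg.IsExtraspecial 2 q4 := by
  have h := extraspecial (G := G4) (n := 12) qData (Nat.succ_pos 11)
  exact h

theorem extra_subgroupOf {α : Type} [Group α] {K H : Subgroup α} (h : K ≤ H)
    (hK : Cfsg.IsExtraspecial 2 K) : Cfsg.IsExtraspecial 2 (K.subgroupOf H) :=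
  CfsgLib.LargeExtra.isExtraspecial_of_mulEquiv (subgroupOfEquivOfLe h).symm hK

theorem two_le_of_odd {α : Type} [Group α] [Finite α] (R A : Subgroup α) (f : α →* ℤˣ) (hA : A ≤ R)
    (hf : ∀ a ∈ A, f a = 1) {o : α} (ho : o ∈ R) (hfo : f o = -1) : 2 * Nat.card A ≤ Nat.card R := by
  have hs : (A : Set α) ∪ (fun a => o * a) '' (A : Set α) ⊆ (R : Set α) := by
    rintro x (hx | ⟨a, ha, rfl⟩)
    exacts [hA hx, mul_mem ho (hA ha)]
  have hd : Disjoint (A : Set α) ((fun a => o * a) '' (A : Set α)) := by
    rw [Set.disjoint_left]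
    rintro _ hx ⟨a, ha, rfl⟩
    have := hf _ hx
    rw [map_mul, hfo, hf a ha, mul_one] at this
    exact absurd this (by decide)
  have h := Set.ncard_le_ncard hs (Set.toFinite _)
  rw [Set.ncard_union_eq hd, Set.ncard_image_of_injective _ (mul_right_injective o),
    ← Nat.card_coe_set_eq, ← Nat.card_coe_set_eq] at h
  simp only [SetLike.coe_sort_coe] at h
  omega

set_option maxHeartbeats 400000 in
/-- The structure of the centraliser. -/
theorem main : ∃ (Q N M : Subgroup (centralizer ({el [6]} : Set G4))), Q.Normal ∧ N.Normal ∧ Q ≤ N ∧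
    N ≤ M ∧ Nat.card Q = 2 ^ 13 ∧ Cfsg.IsExtraspecial 2 Q ∧ Nat.card N = 3 * 2 ^ 13 ∧ M.index = 2 ∧
    ∃ (_ : (N.subgroupOf M).Normal), Cfsg.IsM22 (M ⧸ N.subgroupOf M) := by
  let Q : Subgroup h4 := q4.subgroupOf h4
  have eQ : Q ≃* q4 := subgroupOfEquivOfLe q4_le
  have hQc : Nat.card Q = 2 ^ 13 := (Nat.card_congr eQ.toEquiv).trans (card_stage qData 12 le_rfl)
  let o : h4 := ⟨el [genH.getD 1 0], gen_h4 (by norm_num)⟩
  let w : h4 := ⟨el wThree, el_h4 (by simp [hWords])⟩
  have ho : Equiv.Perm.sign (psi o) = -1 := by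
    rw [psi_eq (x := o) (induces_gen (k := 1) (by norm_num)), sign_piP (by norm_num), if_pos rfl]
  let A : Set h4 := {a | ∃ k, k < 4 ∧ k ≠ 1 ∧ a.1 = el [genH.getD k 0]}
  have hAp : ∀ a ∈ A, psi a ∈ evenGens ∧ Equiv.Perm.sign (psi a) = 1 := by
    rintro a ⟨k, hk, hk1, e⟩
    rw [psi_eq (x := a) (e ▸ induces_gen hk), sign_piP hk, if_neg hk1]
    refine ⟨?_, rfl⟩
    interval_cases k
    exacts [Or.inl rfl, absurd rfl hk1, Or.inr (Or.inl rfl), Or.inr (Or.inr rfl)]
  have hAe : evenGens ⊆ psi '' A := by
    have : ∀ k < 4, k ≠ 1 → piP k ∈ psi '' A := fun k hk h1 =>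
      ⟨⟨_, gen_h4 hk⟩, ⟨k, hk, h1, rfl⟩, psi_eq (induces_gen hk)⟩
    rintro p (rfl | rfl | rfl)
    exacts [this 0 (by norm_num) (by norm_num), this 2 (by norm_num) (by norm_num), this 3 (by norm_num) (by norm_num)]
  have hcard : 443520 ≤ Nat.card (closure (psi '' A)) :=
    card_even.trans (Nat.card_le_card_of_injective _ (inclusion_injective (closure_mono hAe)))
  have hQk : Q ≤ psi.ker := by
    intro x hx
    rw [MonoidHom.mem_ker]
    refine psi_eq ?_
    have hx' : x.1 ∈ q4 := mem_subgroupOf.1 hx
    have : q4 ≤ ({ carrier := {x | Induces x 1}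
                   one_mem' := induces_one
                   mul_mem' := fun {a b} ha hb => by simpa using induces_mul ha hb
                   inv_mem' := fun {a} ha => by simpa using induces_inv ha } : Subgroup G4) := by
      rw [q4, stage, closure_le]
      have hq : ∀ i < 12, Induces (qEl i) 1 := fun i hi => by
        refine induces_kernel (List.mem_cons_of_mem _ ?_)
        have : qWord.length = 12 := by decide +kernel
        rw [List.getD_eq_getElem _ _ (this ▸ hi)]
        exact List.getElem_mem _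
      rintro _ (rfl | ⟨i, hi, rfl⟩)
      · have hb : (qB.getD 6 []).getD 1 false = true := by decide +kernel
        have e := q_comm (i := 6) (j := 1) (by norm_num) (by norm_num)
        rw [hb, if_pos rfl] at e
        show Induces (el [6]) 1
        rw [← inv_mul_cancel_left (qEl 1 * qEl 6) (el [6]), ← e]
        simpa using induces_mul (induces_inv (induces_mul (hq 1 (by norm_num)) (hq 6 (by norm_num))))
          (induces_mul (hq 6 (by norm_num)) (hq 1 (by norm_num)))
      · exact hq i hi
    exact this hx'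
  have hwk : w ∈ psi.ker := by
    rw [MonoidHom.mem_ker]
    exact psi_eq (induces_kernel List.mem_cons_self)
  have hwo : orderOf w = 3 := by
    haveI : Fact (Nat.Prime 3) := ⟨Nat.prime_three⟩
    rw [← Subgroup.orderOf_coe]
    exact orderOf_eq_prime el_w3.1 el_w3.2
  have hH : Nat.card h4 = 21799895040 := by
    refine le_antisymm (card_cent ▸ Nat.card_le_card_of_injective _ (inclusion_injective h4_le)) ?_
    have hk : 24576 ≤ Nat.card psi.ker := by
      refine Nat.le_of_dvd Nat.card_pos ?_
      rw [show (24576 : ℕ) = 3 * 2 ^ 13 from rfl]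
      refine Nat.Coprime.mul_dvd_of_dvd_of_dvd (by norm_num) ?_ (hQc ▸ card_dvd_of_le hQk)
      rw [← hwo, ← Nat.card_zpowers]
      exact card_dvd_of_le ((zpowers_le (H := psi.ker)).2 hwk)
    have hr : 2 * 443520 ≤ Nat.card psi.range := by
      refine le_trans (Nat.mul_le_mul_left 2 hcard) (two_le_of_odd psi.range _ Equiv.Perm.sign ?_ ?_ ⟨o, rfl⟩ ho)
      · rw [closure_le]
        rintro _ ⟨a, _, rfl⟩
        exact ⟨a, rfl⟩
      · intro p hp
        induction hp using closure_induction with
        | mem p hp => obtain ⟨a, ha, rfl⟩ := hp; exact (hAp a ha).2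
        | one => exact map_one _
        | mul a b _ _ ea eb => rw [map_mul, ea, eb, one_mul]
        | inv a _ ea => rw [map_inv, ea, inv_one]
    have := Nat.mul_le_mul hr hk
    rw [← Nat.card_congr (QuotientGroup.quotientKerEquivRange psi).toEquiv,
      ← card_eq_card_quotient_mul_card_subgroup] at this
    exact this
  have heq : h4 = centralizer ({el [6]} : Set G4) :=
    eq_of_le_of_card_ge h4_le (by rw [card_cent, hH])
  rw [← heq]
  refine assemble hH Q ⟨fun q hq x => ?_⟩ hQc ?_ psi hQk w hwo hwk o ho A (fun a ha => (hAp a ha).2)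
    hcard iota iota_injective (fun a ha => iota_mem _ (hAp a ha).1)
  · rw [mem_subgroupOf] at hq ⊢
    exact q4_normal x x.2 q hq
  · exact extra_subgroupOf (α := G4) q4_le q4_extraspecial

end CfsgLib.J4Cent
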