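import Cfsg.Agent.Lib.J4Cent.Fixed

/-!
# The tests of the twenty orbits
-/

set_option autoImplicit false
set_option maxRecDepth 100000

namespace CfsgLib.J4Cent

/-- The number of members of the class allowed for an orbit. -/
def orbN (j : ℕ) : ℕ := if Nat.beq (orbRow.getD j 0) 0 then 1771 else (orbKeep.getD j []).length

theorem orbit_checks : ((List.range 20).all fun j => Nat.beq (orbRow.getD j 0) 0 ||
    orbOk (orbWord.getD j []) (orbRow.getD j 0) (orbKeep.getD j [])) = true ∧
    (List.range 20).map (fun j => orbSize.getD j 0 * orbN j) = [1771, 26565, 0, 0, 0, 0, 0, 79695, 26565, 0, 0, 0, 1771, 0, 0, 0, 0, 0, 0, 0] := by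
  decide +kernel

theorem cls_ncard : clsSet.ncard ≤ 1771 := by
  refine (Set.ncard_image_le ?_).trans (le_of_eq ?_)
  · exact (Set.finite_lt_nat 2048).subset fun m hm => hm.1
  · rw [← mask_checks.2.2.1, show {m | m < 2048 ∧ classMask.testBit m = true} =
      (((List.range 2048).filter fun m => classMask.testBit m).toFinset : Set ℕ) by ext; simp,
      Set.ncard_coe_finset, List.toFinset_card_of_nodup (List.nodup_range.filter _)]

theorem shared_orbit {j : ℕ} (hj : j < 20) :
    (sharedSet clsSet eSet (el (orbWord.getD j []))).ncard ≤ orbN j := by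
  have h := List.all_eq_true.1 orbit_checks.1 j (List.mem_range.2 hj)
  unfold orbN
  by_cases h0 : Nat.beq (orbRow.getD j 0) 0 = true
  · rw [if_pos h0]
    exact (Set.ncard_le_ncard (fun s hs => hs.1) (Set.toFinite _)).trans cls_ncard
  · rw [if_neg h0]
    rcases Bool.or_eq_true_iff.1 h with e | e
    exacts [absurd e h0, shared_le e]

theorem orbit_total : ∑ j : Fin 20, orbSize.getD j.val 0 * orbN j.val = 136367 := by
  have e := congrArg List.sum orbit_checks.2
  have : ∑ j : Fin 20, orbSize.getD j.val 0 * orbN j.val =
      ((List.range 20).map fun j => orbSize.getD j 0 * orbN j).sum := by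
    simp only [Finset.sum_fin_eq_sum_range, List.range_succ, List.range_zero, Finset.sum_range_succ,
      List.map_append, List.sum_append, List.map_cons, List.map_nil, List.sum_cons, List.sum_nil]
    simp
  rw [this, e]
  rfl

end CfsgLib.J4Cent
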