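import Cfsg.Agent.Lib.J4Cent.Fixed
import Cfsg.Agent.Lib.J4Cent.Extra

/-!
# The extraspecial subgroup
-/

set_option autoImplicit false
set_option maxRecDepth 100000

namespace CfsgLib.J4Cent

open Cfsg.Spor CfsgLib.J4P

/-- The central element to a power. -/
def zPow (e : Bool) : List ℕ := if e then [6] else []

/-- The generators. -/
noncomputable def qEl (i : ℕ) : G4 := el (qWord.getD i [])

/-- The words of the dual family. -/
def dWord (k : ℕ) : List ℕ := (qDual.getD k []).flatMap fun j => qWord.getD j []

/-- The dual family. -/
noncomputable def dEl (k : ℕ) : G4 := el (dWord k)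

theorem q_checks :
    ((List.range 12).all fun i =>
      sameW ([6] ++ qWord.getD i []) (qWord.getD i [] ++ [6]) &&
      sameW (qWord.getD i [] ++ qWord.getD i []) (zPow (qSq.getD i false)) &&
      (List.range i).all fun j => sameW (qWord.getD i [] ++ qWord.getD j [])
        (qWord.getD j [] ++ qWord.getD i [] ++ zPow ((qB.getD i []).getD j false))) = true ∧
    ((List.range 12).all fun i => (List.range 12).all fun j =>
      (qB.getD i []).getD j false == (qB.getD j []).getD i false) = true ∧
    ((List.range 12).all fun i => !((qB.getD i []).getD i false)) = true ∧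
    ((List.range 12).all fun k => ((qDual.getD k []).all fun j => Nat.blt j 12) &&
      (List.range 12).all fun i =>
        (qDual.getD k []).foldr (fun j e => xor ((qB.getD j []).getD i false) e) false == Nat.beq i k) = true ∧
    ((List.range 112).any fun b => !(Nat.beq (act (2 ^ b) [6]) (2 ^ b))) = true := by
  decide +kernel

theorem el_zPow (e : Bool) : el (zPow e) = if e then el [6] else 1 := by
  cases e <;> simp [zPow, el_nil]

theorem z_ne : el [6] ≠ 1 := by
  obtain ⟨b, hb, h⟩ := List.any_eq_true.1 q_checks.2.2.2.2
  rw [← el_nil]
  refine el_ne (v := 2 ^ b) (by decide) (by decide)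
    (Nat.pow_lt_pow_right (by norm_num) (List.mem_range.1 hb)) ?_
  rw [beq_eq_false_iff_ne]
  intro e
  rw [e, Bool.not_eq_true'] at h
  exact Bool.false_ne_true (h.symm.trans (Nat.beq_refl (act (2 ^ b) [])))

theorem z_sq : el [6] * el [6] = 1 := el_sq (i := 0) (by norm_num)

theorem q_central {i : ℕ} (hi : i < 12) : Commute (el [6]) (qEl i) := by
  have h := q_checks.1
  simp only [List.all_eq_true, List.mem_range, Bool.and_eq_true] at h
  show _ * _ = _ * _
  rw [qEl, ← el_append, ← el_append]
  exact el_eq (h i hi).1.1

theorem q_comm {i j : ℕ} (hi : i < 12) (hj : j < 12) :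
    qEl i * qEl j = qEl j * qEl i * (if (qB.getD i []).getD j false then el [6] else 1) := by
  obtain ⟨h, hs, hd, -, -⟩ := q_checks
  simp only [List.all_eq_true, List.mem_range, Bool.and_eq_true, beq_iff_eq, Bool.not_eq_true'] at h hs hd
  have key : ∀ {a b : ℕ}, a < 12 → b < a →
      qEl a * qEl b = qEl b * qEl a * (if (qB.getD a []).getD b false then el [6] else 1) := by
    intro a b ha hb
    rw [qEl, qEl, ← el_zPow, ← el_append, ← el_append, ← el_append]
    exact el_eq ((h a ha).2 b hb)
  rcases lt_trichotomy j i with e | rfl | e
  · exact key hi e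
  · rw [hd j hj, if_neg (by simp), mul_one]
  · rw [key hj e, hs i hi j hj]
    cases (qB.getD j []).getD i false
    · simp
    · rw [if_pos rfl, mul_assoc, z_sq, mul_one]

theorem dual_key {i : ℕ} (hi : i < 12) : ∀ (l : List ℕ), (∀ j ∈ l, j < 12) →
    el (l.flatMap fun j => qWord.getD j []) * qEl i = qEl i * el (l.flatMap fun j => qWord.getD j []) *
      (if l.foldr (fun j e => xor ((qB.getD j []).getD i false) e) false then el [6] else 1)
  | [], _ => by simp [el_nil]
  | j :: l, hl => by
    have ih := dual_key hi l fun a ha => hl a (List.mem_cons_of_mem _ ha)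
    have hj := hl j List.mem_cons_self
    have hz : ∀ (e : Bool) (l : List ℕ), (∀ a ∈ l, a < 12) →
        Commute (if e then el [6] else (1 : G4)) (el (l.flatMap fun a => qWord.getD a [])) := by
      intro e l hl
      cases e
      · exact Commute.one_left _
      rw [if_pos rfl]
      induction l with
      | nil => rw [List.flatMap_nil, el_nil]; exact Commute.one_right _
      | cons a l ih' =>
        rw [List.flatMap_cons, el_append]
        exact (q_central (hl a List.mem_cons_self)).mul_right (ih' fun b hb => hl b (List.mem_cons_of_mem _ hb))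
    rw [List.flatMap_cons, el_append, List.foldr_cons]
    set X := el (l.flatMap fun j => qWord.getD j [])
    set e1 := (qB.getD j []).getD i false
    set e2 := l.foldr (fun j e => xor ((qB.getD j []).getD i false) e) false
    have hc : Commute (if e1 then el [6] else 1) X := hz e1 l fun a ha => hl a (List.mem_cons_of_mem _ ha)
    have hq : qEl j * qEl i = qEl i * qEl j * (if e1 then el [6] else 1) := q_comm hj hi
    show qEl j * X * qEl i = qEl i * (qEl j * X) * _
    calc qEl j * X * qEl i = qEl j * qEl i * X * (if e2 then el [6] else 1) := by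
          rw [mul_assoc (qEl j), ih]; group
      _ = qEl i * qEl j * ((if e1 then el [6] else 1) * X) * (if e2 then el [6] else 1) := by
          rw [hq]; group
      _ = qEl i * (qEl j * X) * ((if e1 then el [6] else 1) * (if e2 then el [6] else 1)) := by
          rw [hc.eq]; group
      _ = _ := by
          refine congrArg (fun a => qEl i * (qEl j * X) * a) ?_
          cases e1 <;> cases e2 <;> simp [z_sq]

theorem qData : ExtraData (el [6]) 12 qEl dEl where
  sq := z_sq
  ne := z_ne
  central _ hi := q_central hi
  square i hi := by
    have h := q_checks.1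
    simp only [List.all_eq_true, List.mem_range, Bool.and_eq_true] at h
    have e := el_eq (h i hi).1.2
    rw [el_append, el_zPow] at e
    cases hb : qSq.getD i false <;> simp only [hb, if_true, Bool.false_eq_true, if_false] at e
    exacts [Or.inl e, Or.inr e]
  comm i hi j hj := by
    have e := q_comm hi hj
    cases hb : (qB.getD i []).getD j false <;> simp only [hb, if_true, Bool.false_eq_true, if_false, mul_one] at e
    exacts [Or.inl e, Or.inr e]
  dual_mem k hk := by
    have h := q_checks.2.2.2.1
    simp only [List.all_eq_true, List.mem_range, Bool.and_eq_true] at h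
    have hl : ∀ j ∈ qDual.getD k [], j < 12 := fun j hj => Nat.le_of_ble_eq_true ((h k hk).1 j hj)
    rw [dEl, dWord]
    generalize qDual.getD k [] = l at hl ⊢
    induction l with
    | nil => rw [List.flatMap_nil, el_nil]; exact one_mem _
    | cons a l ih =>
      rw [List.flatMap_cons, el_append]
      exact mul_mem (Subgroup.subset_closure (Set.mem_insert_of_mem _ ⟨a, hl a List.mem_cons_self, rfl⟩))
        (ih fun b hb => hl b (List.mem_cons_of_mem _ hb))
  dual k hk i hi := by
    have h := q_checks.2.2.2.1
    simp only [List.all_eq_true, List.mem_range, Bool.and_eq_true, beq_iff_eq] at h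
    have e := dual_key hi _ fun j hj => Nat.le_of_ble_eq_true ((h k hk).1 j hj)
    rw [(h k hk).2 i hi] at e
    show dEl k * qEl i = qEl i * dEl k ↔ _
    rw [dEl, dWord, e]
    by_cases hik : i = k
    · subst hik
      simp [z_ne]
    · simp [hik, Nat.beq_eq]

end CfsgLib.J4Cent
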