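import Cfsg.Agent.Lib.J4Cent.QData

/-!
# The generators normalise the extraspecial subgroup
-/

set_option autoImplicit false
set_option maxRecDepth 100000

namespace CfsgLib.J4Cent

/-- The product word of a conjugate. -/
def conjWord (g k : ℕ) : List ℕ :=
  let p := (qConj.getD g []).getD k ([], 0)
  (p.1.flatMap fun j => qWord.getD j []) ++ (if Nat.beq p.2 0 then [] else [6])

theorem norm_checks : ((List.range 4).all fun g => (List.range 12).all fun k =>
    ((((qConj.getD g []).getD k ([], 0)).1).all fun j => Nat.blt j 12) &&
    sameW (qWord.getD k [] ++ [genH.getD g 0]) ([genH.getD g 0] ++ conjWord g k)) = true ∧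
    ((List.range 4).all fun g => sameW [genH.getD g 0, 6] [6, genH.getD g 0]) = true := by
  decide +kernel

/-- The extraspecial subgroup. -/
noncomputable def q4 : Subgroup G4 := stage (el [6]) qEl 12

theorem q4_conj {g : ℕ} (hg : g < 4) {x : G4} (hx : x ∈ q4) :
    (el [genH.getD g 0])⁻¹ * x * el [genH.getD g 0] ∈ q4 := by
  set c := el [genH.getD g 0]
  obtain ⟨h, hz⟩ := norm_checks
  simp only [List.all_eq_true, List.mem_range, Bool.and_eq_true] at h hz
  induction hx using Subgroup.closure_induction with
  | mem x hx =>
    rcases hx with rfl | ⟨k, hk, rfl⟩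
    · have e := el_eq (hz g hg)
      rw [show [genH.getD g 0, 6] = [genH.getD g 0] ++ [6] from rfl,
        show [6, genH.getD g 0] = [6] ++ [genH.getD g 0] from rfl, el_append, el_append] at e
      rw [mul_assoc, ← e, inv_mul_cancel_left]
      exact z_mem_stage 12
    · obtain ⟨hl, he⟩ := h g hg k hk
      have e := el_eq he
      rw [el_append, el_append] at e
      rw [qEl, mul_assoc, e, inv_mul_cancel_left, conjWord]
      rw [el_append]
      refine mul_mem ?_ ?_
      · generalize ((qConj.getD g []).getD k ([], 0)).1 = l at hl
        induction l with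
        | nil => rw [List.flatMap_nil, el_nil]; exact one_mem _
        | cons a l ih =>
          rw [List.flatMap_cons, el_append]
          exact mul_mem (q_mem_stage (q := qEl) (Nat.le_of_ble_eq_true (hl a List.mem_cons_self)))
            (ih fun b hb => hl b (List.mem_cons_of_mem _ hb))
      · split_ifs
        · rw [el_nil]; exact one_mem _
        · exact z_mem_stage 12
  | one => simp
  | mul a b _ _ ea eb =>
    have := mul_mem ea eb
    convert this using 1
    group
  | inv a _ ea =>
    have := inv_mem ea
    convert this using 1
    group

end CfsgLib.J4Cent
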