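import Cfsg.Agent.Lib.J4P.Rep
import Cfsg.Agent.Lib.J4Cent.Letters
import Mathlib.Data.Matrix.Mul

/-!
# Words in the representation of degree 112, acting on packed vectors
-/

set_option autoImplicit false
set_option maxRecDepth 100000

namespace CfsgLib.J4Cent

open Cfsg.Spor CfsgLib.J4P Matrix

/-- The elements of the letters of the presentation. -/
noncomputable def jBase : ℕ → Cfsg.Spor.J4
  | 0 => PresentedGroup.of J4.Gen.x
  | 1 => (PresentedGroup.of J4.Gen.x)⁻¹
  | 2 => PresentedGroup.of J4.Gen.y
  | 3 => (PresentedGroup.of J4.Gen.y)⁻¹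
  | 4 => PresentedGroup.of J4.Gen.t
  | _ => (PresentedGroup.of J4.Gen.t)⁻¹

/-- The elements of all letters. -/
noncomputable def jLet (g : ℕ) : Cfsg.Spor.J4 :=
  if g < 6 then jBase g else ((defsX.getD (g - 6) []).map jBase).prod

/-- The group of the representation. -/
abbrev G4 : Type := ↥(rho.range)

/-- The element of a word. -/
noncomputable def el (w : List ℕ) : G4 := rho.rangeRestrict (w.map jLet).prod

theorem el_append (a b : List ℕ) : el (a ++ b) = el a * el b := by
  rw [el, List.map_append, List.prod_append, map_mul]; rfl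

theorem el_nil : el [] = 1 := by rw [el, List.map_nil, List.prod_nil, map_one]

/-- The matrix of an element. -/
def mat (x : G4) : Matrix (Fin 112) (Fin 112) (ZMod 2) := (x.1 : (Matrix _ _ (ZMod 2))ˣ).val

theorem mat_mul (x y : G4) : mat (x * y) = mat x * mat y := rfl

theorem mat_one : mat 1 = 1 := rfl

theorem mat_inj {x y : G4} (h : mat x = mat y) : x = y := Subtype.ext (Units.ext h)

theorem mat_restrict (x : Cfsg.Spor.J4) :
    mat (rho.rangeRestrict x) = (rho x : Matrix _ _ (ZMod 2)) := by
  unfold mat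
  rw [MonoidHom.coe_rangeRestrict]

theorem rho_base {g : ℕ} (hg : g < 6) : (rho (jBase g) : Matrix _ _ (ZMod 2)) = toMatB 112 (MB.getD g []) := by
  have e : MB.getD g [] = matJ.getD g [] := by
    rw [MB, List.getD_append _ _ _ _ (by rw [mat_checks.2.2.2.2.2.2.1.1]; exact hg)]
  rw [e]
  interval_cases g <;> simp only [jBase, map_inv, rho, PresentedGroup.toGroup.of] <;> rfl

theorem mat_el_base {w : List ℕ} (hw : ∀ g ∈ w, g < 6) :
    (rho (w.map jBase).prod : Matrix _ _ (ZMod 2)) = (w.map fun g => toMatB 112 (MB.getD g [])).prod := by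
  induction w with
  | nil => simp
  | cons g w ih =>
    rw [List.map_cons, List.prod_cons, map_mul, Units.val_mul, rho_base (hw g List.mem_cons_self),
      ih fun a ha => hw a (List.mem_cons_of_mem _ ha), List.map_cons, List.prod_cons]

theorem rho_let {g : ℕ} (hg : g < 19) :
    (rho (jLet g) : Matrix _ _ (ZMod 2)) = toMatB 112 (MB.getD g []) := by
  rw [jLet]
  split_ifs with h
  · exact rho_base h
  · obtain ⟨⟨hl, ht, -⟩, hc, -, hd⟩ := letter_checks
    simp only [List.all_eq_true, List.mem_range, Bool.and_eq_true, Nat.beq_eq] at hc hd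
    obtain ⟨h6, he⟩ := hd (g - 6) (by omega)
    have h6' : ∀ a ∈ defsX.getD (g - 6) [], a < 6 := fun a ha => Nat.le_of_ble_eq_true (h6 a ha)
    rw [mat_el_base h6', show g = 6 + (g - 6) by omega, ← eq_of_beq he]
    rw [show 6 + (g - 6) - 6 = g - 6 by omega]
    obtain ⟨-, e⟩ := evalB_spec (G := tabJ) (B := matJ) (n := 112)
      (by rw [mat_checks.2.2.2.2.2.2.1.1, mat_checks.2.2.2.2.2.2.1.2])
      (fun a ha => by
        have := mat_checks.1
        simp only [List.all_eq_true, List.mem_range, Bool.and_eq_true, Nat.beq_eq] at this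
        exact this a (mat_checks.2.2.2.2.2.2.1.1 ▸ ha))
      (w := defsX.getD (g - 6) []) (fun a ha => by rw [mat_checks.2.2.2.2.2.2.1.1]; exact h6' a ha)
    rw [e]
    refine congrArg List.prod (List.map_congr_left fun a ha => ?_)
    rw [MB, List.getD_append _ _ _ _ (by rw [mat_checks.2.2.2.2.2.2.1.1]; exact h6' a ha)]

/-- The letters of a word are letters. -/
def okW (w : List ℕ) : Bool := w.all fun g => Nat.blt g 19

theorem mat_el {w : List ℕ} (hw : okW w = true) :
    mat (el w) = (w.map fun g => toMatB 112 (MB.getD g [])).prod := by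
  induction w with
  | nil => rw [el_nil, mat_one]; simp
  | cons g w ih =>
    simp only [okW, List.all_cons, Bool.and_eq_true] at hw
    rw [show g :: w = [g] ++ w from rfl, el_append, mat_mul, ih hw.2, List.map_append,
      List.prod_append]
    refine congrArg (· * _) ?_
    rw [List.map_singleton, List.prod_singleton]
    rw [el, mat_restrict, List.map_singleton, List.prod_singleton]
    exact rho_let (Nat.le_of_ble_eq_true hw.1)

theorem mat_el_eval {w : List ℕ} (hw : okW w = true) :
    mat (el w) = toMatB 112 (evalB 112 TB w) := by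
  obtain ⟨⟨hl, ht, -⟩, hc, -, -⟩ := letter_checks
  simp only [List.all_eq_true, List.mem_range, Bool.and_eq_true, Nat.beq_eq] at hc
  obtain ⟨-, e⟩ := evalB_spec (G := TB) (B := MB) (n := 112) (by rw [hl, ht])
    (fun g hg => hc g (hl ▸ hg)) (w := w)
    (fun g hg => hl ▸ Nat.le_of_ble_eq_true (List.all_eq_true.1 hw g hg))
  rw [e, mat_el hw]

/-- Equal evaluations give equal elements. -/
noncomputable def sameW (a b : List ℕ) : Bool := okW a && okW b && (evalB 112 TB a == evalB 112 TB b)

theorem el_eq {a b : List ℕ} (h : sameW a b = true) : el a = el b := by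
  simp only [sameW, Bool.and_eq_true] at h
  exact mat_inj (by rw [mat_el_eval h.1.1, mat_el_eval h.1.2, eq_of_beq h.2])

/-- A packed vector. -/
def vz (v : ℕ) : Fin 112 → ZMod 2 := fun j => bitZ (v.testBit j.val)

/-- The image of a packed vector by a word. -/
noncomputable def act (v : ℕ) (w : List ℕ) : ℕ := w.foldl (fun v g => vmT (TB.getD g []) v) v

theorem vz_vmB {A : List ℕ} (hA : A.length = 112) (v : ℕ) :
    vz (vmB A v) = vz v ᵥ* toMatB 112 A := by
  funext j
  simp only [vz, vecMul, dotProduct, toMatB, Matrix.of_apply, vmB_spec]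
  rw [← Equiv.sum_comp (finCongr hA)]
  exact Finset.sum_congr rfl fun k _ => by
    simp [List.getD_eq_getElem _ _ k.isLt]

theorem vz_act : ∀ (w : List ℕ), okW w = true → ∀ v, vz (act v w) = vz v ᵥ* mat (el w)
  | [], _, v => by rw [el_nil, mat_one, vecMul_one]; rfl
  | g :: w, hw, v => by
    have hw' := hw
    simp only [okW, List.all_cons, Bool.and_eq_true] at hw
    obtain ⟨⟨hl, ht, -⟩, hc, -, -⟩ := letter_checks
    simp only [List.all_eq_true, List.mem_range, Bool.and_eq_true, Nat.beq_eq] at hc
    obtain ⟨h1, h2⟩ := hc g (Nat.le_of_ble_eq_true hw.1)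
    show vz (act (vmT (TB.getD g []) v) w) = _
    rw [vz_act w hw.2, vmT_eq _ _ h1, vz_vmB h2, vecMul_vecMul, mat_el hw', mat_el hw.2,
      List.map_cons, List.prod_cons]

theorem act_lt : ∀ (w : List ℕ), okW w = true → ∀ v, v < 2 ^ 112 → act v w < 2 ^ 112
  | [], _, v, hv => hv
  | g :: w, hw, v, hv => by
    simp only [okW, List.all_cons, Bool.and_eq_true] at hw
    obtain ⟨-, hc, hb, -⟩ := letter_checks
    simp only [List.all_eq_true, List.mem_range, Bool.and_eq_true, Nat.beq_eq] at hc hb
    refine act_lt w hw.2 _ ?_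
    show vmT (TB.getD g []) v < _
    rw [vmT_eq _ _ (hc g (Nat.le_of_ble_eq_true hw.1)).1]
    have hA : ∀ r ∈ MB.getD g [], r < 2 ^ 112 := fun r hr =>
      Nat.le_of_ble_eq_true (hb g (Nat.le_of_ble_eq_true hw.1) r hr)
    clear hc hb
    generalize MB.getD g [] = A at hA ⊢
    induction A generalizing v with
    | nil => simp [vmB]
    | cons r rs ih =>
      have h1 : vmB rs (v / 2) < 2 ^ 112 :=
        ih (v / 2) (lt_of_le_of_lt (Nat.div_le_self _ _) hv) (fun a ha => hA a (List.mem_cons_of_mem _ ha))
      rw [vmB]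
      split_ifs
      exacts [Nat.xor_lt_two_pow (hA r List.mem_cons_self) h1, h1]

theorem vz_inj {a b : ℕ} (ha : a < 2 ^ 112) (hb : b < 2 ^ 112) (h : vz a = vz b) : a = b := by
  refine Nat.eq_of_testBit_eq fun j => ?_
  by_cases hj : j < 112
  · have e := congrFun h ⟨j, hj⟩
    revert e
    simp only [vz]
    cases a.testBit j <;> cases b.testBit j <;> decide
  · rw [Nat.testBit_eq_false_of_lt (lt_of_lt_of_le ha (Nat.pow_le_pow_right (by norm_num) (by omega))),
      Nat.testBit_eq_false_of_lt (lt_of_lt_of_le hb (Nat.pow_le_pow_right (by norm_num) (by omega)))]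

theorem vz_xor (a b : ℕ) : vz (a ^^^ b) = vz a + vz b := by
  funext j
  simp [vz, Nat.testBit_xor, bitZ_xor]

theorem vz_zero : vz 0 = 0 := by
  funext j
  simp [vz, bitZ]

/-- Different images of a vector give different elements. -/
theorem el_ne {a b : List ℕ} (ha : okW a = true) (hb : okW b = true) {v : ℕ} (hv : v < 2 ^ 112)
    (h : (act v a == act v b) = false) : el a ≠ el b := by
  intro e
  have := vz_inj (act_lt a ha v hv) (act_lt b hb v hv) (by rw [vz_act a ha, vz_act b hb, e])
  simp [this] at h

end CfsgLib.J4Cent
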